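import Mathlib

/-!
# Generators of finite fields over the prime field
-/

set_option autoImplicit false

namespace CfsgLib.Lie.ShortPres

open Polynomial

variable {F : Type*} [Field F] [Fintype F] {p : ℕ} [hp : Fact p.Prime] [Algebra (ZMod p) F]

/-- an element fixed by no `p ^ d`-th power map, `d ≤ n / 2`, generates -/
theorem exists_aeval_eq {n : ℕ} (hn : Fintype.card F = p ^ n) (α : F)
    (h : ∀ d, 1 ≤ d → 2 * d ≤ n → α ^ p ^ d ≠ α) (β : F) : ∃ f : (ZMod p)[X], aeval α f = β := by
  classical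
  have hint : IsIntegral (ZMod p) α := Algebra.IsIntegral.isIntegral α
  set E := IntermediateField.adjoin (ZMod p) ({α} : Set F)
  have hE : Module.finrank (ZMod p) E = (minpoly (ZMod p) α).natDegree :=
    IntermediateField.adjoin.finrank hint
  have hd1 : 1 ≤ (minpoly (ZMod p) α).natDegree := minpoly.natDegree_pos hint
  have hF : Module.finrank (ZMod p) F = n := by
    have h2 := Module.card_eq_pow_finrank (K := ZMod p) (V := F)
    rw [ZMod.card, hn] at h2
    exact (Nat.pow_right_injective hp.out.two_le h2).symm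
  obtain ⟨r, hr⟩ : (minpoly (ZMod p) α).natDegree ∣ n := hF ▸ minpoly.degree_dvd hint
  have hcard : Fintype.card E = p ^ (minpoly (ZMod p) α).natDegree := by
    rw [Module.card_eq_pow_finrank (K := ZMod p) (V := E), ZMod.card, hE]
  have hfix : α ^ p ^ (minpoly (ZMod p) α).natDegree = α := by
    have := FiniteField.pow_card (⟨α, IntermediateField.mem_adjoin_simple_self _ α⟩ : E)
    rw [hcard] at this
    exact congrArg Subtype.val this
  have hr1 : r = 1 := by
    have hn0 : n ≠ 0 := fun e => by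
      rw [e, pow_zero] at hn; exact absurd hn Fintype.one_lt_card.ne'
    rcases Nat.lt_or_ge r 2 with h2 | h2
    · interval_cases r
      · omega
      · rfl
    · exact absurd hfix (h _ hd1 (by rw [hr, mul_comm]; exact Nat.mul_le_mul_left _ h2))
  have htop : E = ⊤ := by
    refine IntermediateField.eq_of_le_of_finrank_eq le_top ?_
    rw [hE, IntermediateField.finrank_top', hF, hr, hr1, mul_one]
  have : β ∈ (Algebra.adjoin (ZMod p) ({α} : Set F)) := by
    rw [← IntermediateField.adjoin_simple_toSubalgebra_of_isAlgebraic hint.isAlgebraic]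
    exact (htop.ge (IntermediateField.mem_top) : β ∈ E)
  rw [Algebra.adjoin_singleton_eq_range_aeval] at this
  exact this

omit hp [Algebra (ZMod p) F] in
/-- a primitive element -/
theorem exists_primitive : ∃ ω : F, ω ≠ 0 ∧ orderOf ω = Fintype.card F - 1 ∧
    ∀ s : F, s ≠ 0 → ∃ n : ℕ, ω ^ n = s := by
  classical
  obtain ⟨g, hg⟩ := IsCyclic.exists_monoid_generator (α := Fˣ)
  refine ⟨g, g.ne_zero, ?_, fun s hs => ?_⟩
  · rw [orderOf_units, orderOf_eq_card_of_forall_mem_zpowers fun x => ?_, Nat.card_eq_fintype_card,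
      Fintype.card_units]
    obtain ⟨m, hm⟩ := Submonoid.mem_powers_iff x g |>.1 (hg x)
    exact ⟨m, by simpa using hm⟩
  · obtain ⟨m, hm⟩ := Submonoid.mem_powers_iff (Units.mk0 s hs) g |>.1 (hg _)
    exact ⟨m, by rw [← Units.val_pow_eq_pow_val, hm]; rfl⟩

omit [Algebra (ZMod p) F] in
/-- the square of a primitive element generates -/
theorem sq_not_fixed {n : ℕ} (hn : Fintype.card F = p ^ n) {ω : F} (hω0 : ω ≠ 0)
    (hω : orderOf ω = Fintype.card F - 1) (d : ℕ) (hd : 1 ≤ d) (hd2 : 2 * d ≤ n) :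
    (ω ^ 2) ^ p ^ d ≠ ω ^ 2 := by
  intro h
  rw [← pow_mul] at h
  have hle : 2 ≤ 2 * p ^ d := Nat.le_mul_of_pos_right 2 (pow_pos hp.out.pos d)
  have h1 : ω ^ (2 * p ^ d - 2) = 1 := by
    have : ω ^ (2 * p ^ d - 2) * ω ^ 2 = 1 * ω ^ 2 := by
      rw [← pow_add, Nat.sub_add_cancel hle, h, one_mul]
    exact mul_right_cancel₀ (pow_ne_zero _ hω0) this
  have h2 := orderOf_dvd_of_pow_eq_one h1
  rw [hω, hn] at h2
  have h3 : 2 ≤ p ^ d := le_trans hp.out.two_le (Nat.le_self_pow (by omega) p)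
  have h4 := Nat.le_of_dvd (by omega) h2
  have h5 : p ^ (2 * d) ≤ p ^ n := Nat.pow_le_pow_right hp.out.pos hd2
  rw [two_mul, pow_add] at h5
  rcases Nat.lt_or_ge (p ^ d) 3 with h6 | h6
  · have h7 : p ^ d = 2 := by omega
    rw [h7] at h4 h5
    omega
  · have := Nat.mul_le_mul_left (p ^ d) h6
    omega

omit [Algebra (ZMod p) F] in
/-- for odd `p` and `n ≥ 3`, some generator `α` has `α` and `α + 1` non-zero squares -/
theorem exists_two_squares {n : ℕ} (hn : Fintype.card F = p ^ n) (hp2 : p ≠ 2) (hn3 : 3 ≤ n)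
    (h2 : (2 : F) ≠ 0) :
    ∃ x y : F, x ≠ 0 ∧ y ≠ 0 ∧ x ^ 2 + 1 = y ^ 2 ∧
      ∀ d, 1 ≤ d → 2 * d ≤ n → (x ^ 2) ^ p ^ d ≠ x ^ 2 := by
  classical
  by_contra hcon
  push_neg at hcon
  set T : Finset F := (Finset.Icc 1 (n / 2)).biUnion
    (fun d => ((X ^ p ^ d - X : F[X]).roots).toFinset) with hT
  have hmemT : ∀ z : F, (∃ d, 1 ≤ d ∧ 2 * d ≤ n ∧ z ^ p ^ d = z) → z ∈ T := by
    rintro z ⟨d, hd1, hd2, hz⟩
    rw [hT, Finset.mem_biUnion]
    refine ⟨d, Finset.mem_Icc.2 ⟨hd1, by omega⟩, ?_⟩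
    rw [Multiset.mem_toFinset, mem_roots (FiniteField.X_pow_card_pow_sub_X_ne_zero F (by omega) hp.out.one_lt)]
    simp [hz]
  have hTcard : 2 * T.card ≤ 3 * p ^ (n / 2) := by
    have key : ∀ N, 1 ≤ N → 2 * ∑ d ∈ Finset.Icc 1 N, p ^ d ≤ 3 * p ^ N := by
      intro N hN
      induction N with
      | zero => omega
      | succ N ih =>
        rcases Nat.eq_zero_or_pos N with rfl | hN0
        · simp; omega
        · rw [Finset.sum_Icc_succ_top (by omega), mul_add]
          have h3 : 3 ≤ p := by have := hp.out.two_le; omega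
          have := Nat.mul_le_mul_left (p ^ N) h3
          have := ih hN0
          rw [pow_succ]
          nlinarith
    refine le_trans (Nat.mul_le_mul_left 2 ?_) (key _ (by omega))
    refine le_trans Finset.card_biUnion_le (Finset.sum_le_sum fun d hd => ?_)
    refine le_trans (Multiset.toFinset_card_le _) (le_trans (card_roots' _) ?_)
    rw [FiniteField.X_pow_card_pow_sub_X_natDegree_eq F (by simp at hd; omega) hp.out.one_lt]
  -- the parametrisation of the squares `x ^ 2` with `x ^ 2 + 1` a square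
  set f : F → F := fun y => ((y - y⁻¹) / 2) ^ 2 with hf
  set S : Finset F := Finset.univ.filter (fun y => y ≠ 0) with hS
  have himg : S.image f ⊆ T := by
    intro z hz
    obtain ⟨y, hy, rfl⟩ := Finset.mem_image.1 hz
    have hy0 : y ≠ 0 := (Finset.mem_filter.1 hy).2
    refine hmemT _ ?_
    by_cases hx : (y - y⁻¹) / 2 = 0
    · exact ⟨1, le_rfl, by omega, by simp [hf, hx, hp.out.ne_zero]⟩
    have e : f y + 1 = ((y + y⁻¹) / 2) ^ 2 := by
      simp only [hf]; field_simp; ring
    by_cases hx' : (y + y⁻¹) / 2 = 0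
    · rw [hx', zero_pow two_ne_zero] at e
      refine ⟨1, le_rfl, by omega, ?_⟩
      rw [eq_neg_of_add_eq_zero_left e, pow_one, (hp.out.odd_of_ne_two hp2).neg_one_pow]
    exact hcon _ _ hx hx' e
  have hfib : ∀ z ∈ S.image f, (S.filter fun y => f y = z).card ≤ 4 := by
    intro z _
    let P : F[X] := (X ^ 2 - 1) ^ 2 - C (4 * z) * X ^ 2
    have hP : P.natDegree = 4 := by
      simp only [P]; compute_degree!
    have hP0 : P ≠ 0 := fun e => by rw [e] at hP; simp at hP
    refine le_trans (Finset.card_le_card (t := P.roots.toFinset) fun y hy => ?_)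
      (le_trans (Multiset.toFinset_card_le _) (le_trans (card_roots' _) hP.le))
    obtain ⟨hy1, hy2⟩ := Finset.mem_filter.1 hy
    have hy0 : y ≠ 0 := (Finset.mem_filter.1 hy1).2
    rw [Multiset.mem_toFinset, mem_roots hP0, IsRoot.def]
    simp only [P, eval_sub, eval_pow, eval_mul, eval_C, eval_X, eval_one]
    rw [← hy2]
    simp only [hf]
    field_simp
    ring
  have hcount : S.card ≤ 4 * T.card :=
    (Finset.card_le_mul_card_image S 4 hfib).trans (Nat.mul_le_mul_left 4 (Finset.card_le_card himg))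
  have hScard : S.card + 1 = p ^ n := by
    rw [hS, Finset.filter_ne', Finset.card_erase_add_one (Finset.mem_univ 0), Finset.card_univ, hn]
  have h3 : 3 ≤ p := by have := hp.out.two_le; omega
  have h4 : p ^ (n / 2) * p ^ 2 ≤ p ^ n := by
    rw [← pow_add]; exact Nat.pow_le_pow_right hp.out.pos (by omega)
  have h5 : 9 ≤ p ^ 2 := by nlinarith
  have h6 := Nat.mul_le_mul_left (p ^ (n / 2)) h5
  have h7 : 1 ≤ p ^ (n / 2) := Nat.one_le_pow _ _ hp.out.pos
  omega

end CfsgLib.Lie.ShortPres
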