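import Cfsg.Agent.Lib.Lie.SL2Rel

/-!
# A map from `SL(2, K)` from three elements

`u`, `t`, `h` with an additive parametrisation of the conjugates of `u` by powers of `h`.
-/

set_option autoImplicit false

namespace CfsgLib.Lie.ShortPres

open Matrix CfsgLib.Lie.SL2Rel CfsgLib.Lie.SL2Rel.Fam

variable {K : Type*} [Field K]

/-- the Weyl matrices -/
def wm (s : K) : SpecialLinearGroup (Fin 2) K := upper s * lower (-s⁻¹) * upper s

/-- the torus matrices -/
def hm (s : K) : SpecialLinearGroup (Fin 2) K := wm s * wm (-1)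

theorem exists_hom [Finite K] {H : Type*} [Group H] (u t h : H) (ω : K) (hω0 : ω ≠ 0)
    (hω : ∀ s : K, s ≠ 0 → ∃ n : ℕ, ω ^ n = s)
    (x : K → H) (hadd : ∀ b c, x (b + c) = x b * x c) (h1 : x 1 = u)
    (hh : ∀ b, x (ω ^ 2 * b) = h * x b * h⁻¹) (ht : t * h * t⁻¹ = h⁻¹) (htu : t = u * (t * u * t⁻¹) * u)
    (hbase : h = x ω * (t * x ω⁻¹ * t⁻¹) * x ω * t⁻¹ ∨
      ∃ j : ℕ, (2 : K) = 0 ∧ ω ^ (2 * j) = ω ∧ h ^ (2 * j) = h) :
    ∃ φ : SpecialLinearGroup (Fin 2) K →* H,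
      φ (upper 1) = u ∧ φ (wm 1) = t ∧ φ (hm ω) = h ∧ ∀ b, φ (upper b) = x b := by
  have hx0 : x 0 = 1 := by
    have := hadd 0 0
    rwa [add_zero, left_eq_mul] at this
  have hxn : ∀ b, x (-b) = (x b)⁻¹ := fun b =>
    eq_inv_of_mul_eq_one_left (by rw [← hadd, neg_add_cancel, hx0])
  set y : K → H := fun v => t * x (-v) * t⁻¹ with hy
  have hyadd : ∀ b c, y (b + c) = y b * y c := fun b c => by
    simp only [hy]; rw [neg_add, hadd]; group
  have hy2 : ∀ v, h * y v * h⁻¹ = y ((ω ^ 2)⁻¹ * v) := by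
    intro v
    have e1 : h⁻¹ * x (-v) * h = x (-((ω ^ 2)⁻¹ * v)) := by
      have := hh (-((ω ^ 2)⁻¹ * v))
      rw [show ω ^ 2 * -((ω ^ 2)⁻¹ * v) = -v by field_simp] at this
      rw [this]; group
    have e2 : h * t = t * h⁻¹ := by
      have : t * h = h⁻¹ * t := by rw [← ht]; group
      calc h * t = h * (t * h) * h⁻¹ := by group
        _ = h * (h⁻¹ * t) * h⁻¹ := by rw [this]
        _ = t * h⁻¹ := by group
    calc h * (t * x (-v) * t⁻¹) * h⁻¹ = (h * t) * x (-v) * (h * t)⁻¹ := by group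
      _ = t * (h⁻¹ * x (-v) * h) * t⁻¹ := by rw [e2]; group
      _ = t * x (-((ω ^ 2)⁻¹ * v)) * t⁻¹ := by rw [e1]
  set w : K → H := fun s => x s * y (-s⁻¹) * x s with hw
  -- conjugation by `h` moves `w s` to `w (ω² s)`
  have hwh : ∀ s, h * w s * h⁻¹ = w (ω ^ 2 * s) := by
    intro s
    simp only [hw]
    rw [hh, show -(ω ^ 2 * s)⁻¹ = (ω ^ 2)⁻¹ * -s⁻¹ by rw [mul_inv]; ring, ← hy2]
    group
  set P : K → Prop := fun s => ∀ v, w s * x v * (w s)⁻¹ = y (-(s⁻¹ ^ 2 * v)) with hP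
  have hstep : ∀ s, P s → P (ω ^ 2 * s) := by
    intro s hs v
    have e : x v = h * x ((ω ^ 2)⁻¹ * v) * h⁻¹ := by
      rw [← hh, ← mul_assoc, mul_inv_cancel₀ (pow_ne_zero _ hω0), one_mul]
    calc w (ω ^ 2 * s) * x v * (w (ω ^ 2 * s))⁻¹
        = (h * w s * h⁻¹) * (h * x ((ω ^ 2)⁻¹ * v) * h⁻¹) * (h * w s * h⁻¹)⁻¹ := by rw [hwh, ← e]
      _ = h * (w s * x ((ω ^ 2)⁻¹ * v) * (w s)⁻¹) * h⁻¹ := by group
      _ = h * y (-(s⁻¹ ^ 2 * ((ω ^ 2)⁻¹ * v))) * h⁻¹ := by rw [hs]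
      _ = y (-((ω ^ 2 * s)⁻¹ ^ 2 * v)) := by rw [hy2]; congr 1; rw [mul_inv]; ring
  have hw1 : w 1 = t := by
    simp only [hw, hy, inv_one, neg_neg, h1]
    exact htu.symm
  have hP1 : P 1 := by
    intro v
    rw [hw1]
    simp [hy]
  have hit : ∀ j s, P s → P (ω ^ (2 * j) * s) := by
    intro j
    induction j with
    | zero => intro s hs; simpa using hs
    | succ j ih =>
      intro s hs
      rw [show ω ^ (2 * (j + 1)) * s = ω ^ 2 * (ω ^ (2 * j) * s) by ring]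
      exact hstep _ (ih s hs)
  have hωt : (h = x ω * (t * x ω⁻¹ * t⁻¹) * x ω * t⁻¹) → w ω = h * t := by
    intro e
    simp only [hw, hy, neg_neg]
    conv_rhs => rw [e]
    group
  have hPω : P ω := by
    rcases hbase with e | ⟨j, -, hj, -⟩
    · intro v
      rw [hωt e]
      calc h * t * x v * (h * t)⁻¹ = h * (t * x v * t⁻¹) * h⁻¹ := by group
        _ = h * y (-v) * h⁻¹ := by simp [hy]
        _ = y (-(ω⁻¹ ^ 2 * v)) := by rw [hy2]; congr 1; rw [inv_pow]; ring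
    · have := hit j 1 hP1
      rwa [mul_one, hj] at this
  have hall : ∀ s, s ≠ 0 → P s := by
    intro s hs
    obtain ⟨n, rfl⟩ := hω s hs
    rcases Nat.even_or_odd' n with ⟨j, rfl | rfl⟩
    · simpa using hit j 1 hP1
    · rw [pow_succ]; exact hit j ω hPω
  let F : Fam K H :=
    { x := x, y := y, x_add := hadd, y_add := hyadd, rel := fun s v hs => hall s hs v }
  have hm' := F.mult_of_finite
  refine ⟨F.hom hm', (F.hom_upper hm' 1).trans h1, ?_, ?_, F.hom_upper hm'⟩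
  · rw [wm, map_mul, map_mul, F.hom_upper, F.hom_lower]
    exact hw1
  · rw [hm, map_mul, wm, wm, map_mul, map_mul, map_mul, map_mul, F.hom_upper, F.hom_lower, F.hom_upper,
      F.hom_lower]
    show w ω * w (-1) = h
    have hneg : w (-1) = (w 1)⁻¹ := by
      simp only [hw, inv_neg, inv_one, neg_neg, hxn]
      simp only [hy, neg_neg, hxn]
      group
    rcases hbase with e | ⟨j, h2, hj, hhj⟩
    · rw [hωt e, hneg, hw1]; group
    · have hm1 : (-1 : K) = 1 := by linear_combination -h2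
      rw [hm1] at hneg ⊢
      have hiter : ∀ i, h ^ i * w 1 * (h ^ i)⁻¹ = w (ω ^ (2 * i)) := by
        intro i
        induction i with
        | zero => simp
        | succ i ih =>
          rw [show ω ^ (2 * (i + 1)) = ω ^ 2 * ω ^ (2 * i) by ring, ← hwh, ← ih, pow_succ']
          group
      have e1 : t * h ^ j = (h ^ j)⁻¹ * t := by
        have : (t * h * t⁻¹) ^ j = (h ^ j)⁻¹ := by rw [ht, inv_pow]
        rw [conj_pow] at this
        rw [← this]; group
      have e2 : w ω = h ^ (2 * j) * t := by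
        rw [← hj, ← hiter j, hw1, two_mul, pow_add]
        calc h ^ j * t * (h ^ j)⁻¹ = h ^ j * (t * h ^ j) * (h ^ j)⁻¹ * (h ^ j)⁻¹ := by group
          _ = h ^ j * ((h ^ j)⁻¹ * t) * (h ^ j)⁻¹ * (h ^ j)⁻¹ := by rw [e1]
          _ = t * (h ^ j)⁻¹ * (h ^ j)⁻¹ := by group
          _ = h ^ j * h ^ j * t := by
            have e3 : t * (h ^ j)⁻¹ = h ^ j * t := by
              calc t * (h ^ j)⁻¹ = h ^ j * ((h ^ j)⁻¹ * t) * (h ^ j)⁻¹ := by group
                _ = h ^ j * (t * h ^ j) * (h ^ j)⁻¹ := by rw [e1]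
                _ = h ^ j * t := by group
            rw [e3, mul_assoc (h ^ j), e3, ← mul_assoc]
      have et : t = t⁻¹ := by rw [← hw1]; exact hneg
      rw [e2, hw1, hhj]
      conv_lhs => arg 2; rw [et]
      group

end CfsgLib.Lie.ShortPres
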