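import Cfsg.Agent.Lib.Lie.ShortPres.Module
import Cfsg.Agent.Lib.Lie.ShortPres.Fam
import Cfsg.Agent.Lib.Lie.ShortPres.Choice

/-!
# Short presentations of `SL(2, F)` and `PSL(2, F)`
-/

set_option autoImplicit false

namespace CfsgLib.Lie.ShortPres

open Polynomial Matrix CfsgLib.Lie.SL2Rel CfsgLib.Lie.SL2Rel.Fam
open scoped commutatorElement

section Ext

variable {F : Type*} [Field F] {p : ℕ} [hp : Fact p.Prime] [Algebra (ZMod p) F]

/-- an additive condition that holds at `1` and is stable under multiplication by a generator holds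
everywhere -/
theorem forall_of_generated (α : F) (hgen : ∀ β : F, ∃ f : (ZMod p)[X], aeval α f = β) (S : F → Prop)
    (h0 : S 0) (h1 : S 1) (hadd : ∀ b c, S b → S c → S (b + c)) (hmul : ∀ b, S b → S (α * b)) (β : F) :
    S β := by
  obtain ⟨f, rfl⟩ := hgen β
  induction f using Polynomial.induction_on' with
  | add f g hf hg => rw [map_add]; exact hadd _ _ hf hg
  | monomial i c =>
    rw [aeval_monomial, ← ZMod.natCast_zmod_val c, map_natCast]
    have hi : S (α ^ i) := by
      induction i with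
      | zero => simpa using h1
      | succ i ih => rw [pow_succ']; exact hmul _ ih
    induction c.val with
    | zero => simpa using h0
    | succ n ih => rw [Nat.cast_succ, add_mul, one_mul]; exact hadd _ _ ih hi

/-- the parametrisation is equivariant for a commuting element -/
theorem param_equivariant {H : Type*} [Group H] {a h : H} (hah : Commute a h) (x : F → H)
    (hadd : ∀ b c, x (b + c) = x b * x c) (α β : F)
    (hgen : ∀ γ : F, ∃ f : (ZMod p)[X], aeval α f = γ) (ha : ∀ b, x (α * b) = a * x b * a⁻¹)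
    (hh : h * x 1 * h⁻¹ = x β) (b : F) : x (β * b) = h * x b * h⁻¹ := by
  refine forall_of_generated (p := p) α hgen (fun b => x (β * b) = h * x b * h⁻¹) ?_ ?_ ?_ ?_ b
  · have h0 : x 0 = 1 := by
      have := hadd 0 0
      rwa [add_zero, left_eq_mul] at this
    simp [h0]
  · simp [hh]
  · intro b c hb hc
    rw [mul_add, hadd, hb, hc, hadd]; group
  · intro b hb
    rw [mul_left_comm, ha, hb, ha]
    calc a * (h * x b * h⁻¹) * a⁻¹ = (a * h) * x b * (a * h)⁻¹ := by group
      _ = (h * a) * x b * (h * a)⁻¹ := by rw [hah.eq]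
      _ = h * (a * x b * a⁻¹) * h⁻¹ := by group

end Ext

section Mat

variable {F : Type*} [Field F]

theorem val_wm {s : F} (hs : s ≠ 0) : (wm s).1 = !![0, s; -s⁻¹, 0] := by
  simp only [wm, val_mul']
  ext i j
  fin_cases i <;> fin_cases j <;> simp [upper, lower, Matrix.mul_apply, Fin.sum_univ_two] <;>
    field_simp <;> simp [hs]

theorem val_hm {s : F} (hs : s ≠ 0) : (hm s).1 = !![s, 0; 0, s⁻¹] := by
  rw [hm, val_mul', val_wm hs, val_wm (neg_ne_zero.2 one_ne_zero)]
  ext i j
  fin_cases i <;> fin_cases j <;> simp [Matrix.mul_apply, Fin.sum_univ_two]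

theorem upper_add (b c : F) : upper (b + c) = upper b * upper c := by
  apply Subtype.ext
  simp only [val_mul']
  ext i j
  fin_cases i <;> fin_cases j <;> simp [upper, Matrix.mul_apply, Fin.sum_univ_two, add_comm]

theorem upper_zero : upper (0 : F) = 1 := by
  apply Subtype.ext
  ext i j
  fin_cases i <;> fin_cases j <;> simp [upper]

theorem upper_pow (b : F) (n : ℕ) : upper b ^ n = upper ((n : F) * b) := by
  induction n with
  | zero => rw [pow_zero, Nat.cast_zero, zero_mul, upper_zero]
  | succ n ih => rw [pow_succ, ih, ← upper_add]; congr 1; push_cast; ring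

theorem hm_one : hm (1 : F) = 1 := by
  apply Subtype.ext
  rw [val_hm one_ne_zero]
  ext i j
  fin_cases i <;> fin_cases j <;> simp

theorem hm_mul {r s : F} (hr : r ≠ 0) (hs : s ≠ 0) : hm r * hm s = hm (r * s) := by
  apply Subtype.ext
  rw [val_mul', val_hm hr, val_hm hs, val_hm (mul_ne_zero hr hs)]
  ext i j
  fin_cases i <;> fin_cases j <;> simp [Matrix.mul_apply, Fin.sum_univ_two, mul_comm]

theorem hm_pow {s : F} (hs : s ≠ 0) (n : ℕ) : hm s ^ n = hm (s ^ n) := by
  induction n with
  | zero => rw [pow_zero, pow_zero, hm_one]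
  | succ n ih => rw [pow_succ, ih, hm_mul (pow_ne_zero _ hs) hs, pow_succ]

theorem hm_conj {s : F} (hs : s ≠ 0) (b : F) : hm s * upper b * (hm s)⁻¹ = upper (s ^ 2 * b) := by
  rw [mul_inv_eq_iff_eq_mul]
  apply Subtype.ext
  rw [val_mul', val_mul', val_hm hs]
  ext i j
  fin_cases i <;> fin_cases j <;> simp [upper, Matrix.mul_apply, Fin.sum_univ_two]
  field_simp

theorem wm_hm {s : F} (hs : s ≠ 0) : wm 1 * hm s * (wm 1)⁻¹ = (hm s)⁻¹ := by
  rw [mul_inv_eq_iff_eq_mul, eq_inv_mul_iff_mul_eq]
  apply Subtype.ext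
  simp only [val_mul', val_hm hs, val_wm one_ne_zero]
  ext i j
  fin_cases i <;> fin_cases j <;> simp [Matrix.mul_apply, Fin.sum_univ_two, hs]

theorem wm_upper (b : F) : wm 1 * upper b * (wm 1)⁻¹ = lower (-b) := by
  rw [mul_inv_eq_iff_eq_mul]
  apply Subtype.ext
  simp only [val_mul', val_wm one_ne_zero]
  ext i j
  fin_cases i <;> fin_cases j <;> simp [upper, lower, Matrix.mul_apply, Fin.sum_univ_two]

theorem upper_pw {p : ℕ} [hp : Fact p.Prime] [Algebra (ZMod p) F] {s : F} (hs : s ≠ 0) (m : ℕ)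
    (f : (ZMod p)[X]) : pw (upper (1 : F)) (hm s ^ m) f = upper (aeval ((s ^ m) ^ 2) f) := by
  have hc : ∀ i, conjPow (upper (1 : F)) (hm s ^ m) i = upper (((s ^ m) ^ 2) ^ i) := by
    intro i
    rw [conjPow, hm_pow hs, hm_pow (pow_ne_zero _ hs), hm_conj (pow_ne_zero _ (pow_ne_zero _ hs)), mul_one,
      ← pow_mul, ← pow_mul, mul_comm i 2, pow_mul, pow_mul]
  rw [pw, aeval_eq_sum_range]
  induction (f.natDegree + 1) with
  | zero => simp [upper_zero]
  | succ n ih =>
    rw [List.range_succ, List.map_append, List.prod_append, ih, List.map_singleton, List.prod_singleton,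
      Finset.sum_range_succ, upper_add, hc, upper_pow]
    congr 2
    rw [Algebra.smul_def]
    congr 1
    conv_rhs => rw [← ZMod.natCast_zmod_val (f.coeff n), map_natCast]

end Mat

section Iso

variable {F : Type*} [Field F] [Fintype F] {p : ℕ} [hp : Fact p.Prime] [Algebra (ZMod p) F]

/-- the three matrices -/
def gens (ω : F) : Fin 3 → SpecialLinearGroup (Fin 2) F := ![upper 1, wm 1, hm ω]

theorem nonempty_equiv {G : Type*} [Group G] (π : SpecialLinearGroup (Fin 2) F →* G)
    (hπ : Function.Surjective π) (rels : Set (FreeGroup (Fin 3))) (ω : F) (hω0 : ω ≠ 0)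
    (hω : ∀ s : F, s ≠ 0 → ∃ n : ℕ, ω ^ n = s)
    (hsq : ∀ β : F, ∃ f : (ZMod p)[X], aeval (ω ^ 2) f = β)
    (hval : ∀ r ∈ rels, π (FreeGroup.lift (gens ω) r) = 1)
    (x : F → PresentedGroup rels) (hadd : ∀ b c, x (b + c) = x b * x c)
    (h1 : x 1 = PresentedGroup.of 0)
    (hh : ∀ b, x (ω ^ 2 * b) = PresentedGroup.of 2 * x b * (PresentedGroup.of (rels := rels) 2)⁻¹)
    (ht : PresentedGroup.of (rels := rels) 1 * PresentedGroup.of 2 * (PresentedGroup.of 1)⁻¹ =
      (PresentedGroup.of 2)⁻¹)
    (htu : PresentedGroup.of (rels := rels) 1 =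
      PresentedGroup.of 0 * (PresentedGroup.of 1 * PresentedGroup.of 0 * (PresentedGroup.of 1)⁻¹) * PresentedGroup.of 0)
    (hbase : PresentedGroup.of 2 = x ω * (PresentedGroup.of 1 * x ω⁻¹ * (PresentedGroup.of 1)⁻¹) * x ω *
        (PresentedGroup.of 1)⁻¹ ∨
      ∃ j : ℕ, (2 : F) = 0 ∧ ω ^ (2 * j) = ω ∧ PresentedGroup.of (rels := rels) 2 ^ (2 * j) = PresentedGroup.of 2)
    (hker : ∀ φ : SpecialLinearGroup (Fin 2) F →* PresentedGroup rels, φ (wm 1) = PresentedGroup.of 1 →
      π.ker ≤ φ.ker) :
    Nonempty (PresentedGroup rels ≃* G) := by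
  obtain ⟨φ, hu, ht', hh', -⟩ := exists_hom _ _ _ ω hω0 hω x hadd h1 hh ht htu hbase
  have hlift : ∀ r, FreeGroup.lift (fun i => π (gens ω i)) r = π (FreeGroup.lift (gens ω) r) := fun r =>
    DFunLike.congr_fun (FreeGroup.ext_hom (FreeGroup.lift (fun i => π (gens ω i)))
      (π.comp (FreeGroup.lift (gens ω))) fun i => by simp) r
  let ψ : PresentedGroup rels →* G := PresentedGroup.toGroup (f := fun i => π (gens ω i))
    (fun r hr => (hlift r).trans (hval r hr))
  let φ' : G →* PresentedGroup rels := π.liftOfSurjective hπ ⟨φ, hker φ ht'⟩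
  have hφ' : ∀ g, φ' (π g) = φ g := fun g => π.liftOfRightInverse_comp_apply _ _ ⟨φ, hker φ ht'⟩ g
  have hψ : ∀ i, ψ (PresentedGroup.of i) = π (gens ω i) := fun i => PresentedGroup.toGroup.of _
  have hgu : ∀ b : F, ψ (φ (upper b)) = π (upper b) := by
    intro b
    refine forall_of_generated (p := p) (ω ^ 2) hsq (fun b => ψ (φ (upper b)) = π (upper b)) ?_ ?_ ?_ ?_ b
    · simp [upper_zero]
    · simp [hu, hψ, gens]
    · intro b c hb hc
      simp [upper_add, hb, hc]
    · intro b hb
      simp [← hm_conj hω0 b, hb, hh', hψ, gens]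
  have hgw : ψ (φ (wm 1)) = π (wm 1) := by simp [ht', hψ, gens]
  have hall : ∀ g, ψ (φ g) = π g := by
    intro g
    refine mem_gens (P := fun g => ψ (φ g) = π g) ?_ hgu ?_ g
    · intro a b ha hb
      simp [ha, hb]
    · have e : (wel : SpecialLinearGroup (Fin 2) F) = (wm 1)⁻¹ := by
        rw [eq_inv_iff_mul_eq_one]
        apply Subtype.ext
        rw [val_mul', val_wm one_ne_zero]
        ext i j
        fin_cases i <;> fin_cases j <;> simp [wel, Matrix.mul_apply, Fin.sum_univ_two]
      simp [e, hgw]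
  refine ⟨MonoidHom.toMulEquiv ψ φ' ?_ ?_⟩
  · apply PresentedGroup.ext
    intro i
    simp only [MonoidHom.comp_apply, MonoidHom.id_apply, hψ, hφ']
    fin_cases i <;> simp [gens, hu, ht', hh']
  · ext g
    obtain ⟨g, rfl⟩ := hπ g
    simp [hφ', hall]

end Iso

theorem pol_list {H : Type*} [Group H] {r : FreeGroup (Fin 3)} {rels : Set (FreeGroup (Fin 3))}
    (hr : r ∈ rels) : PresentedGroup.mk rels r = 1 :=
  PresentedGroup.one_of_mem hr

section Odd

variable {F : Type*} [Field F] [Fintype F] {p : ℕ} [hp : Fact p.Prime] [Algebra (ZMod p) F]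

/-- for odd `q`, nine relations for a quotient of `SL(2, F)` by a central subgroup killed by `e` -/
theorem odd_presentation {n : ℕ} (hn : Fintype.card F = p ^ n) (hp2 : p ≠ 2) {G : Type*} [Group G]
    (π : SpecialLinearGroup (Fin 2) F →* G) (hπ : Function.Surjective π) (e : FreeGroup (Fin 3))
    (he : ∀ ω : F, π (FreeGroup.lift (gens ω) e) = 1)
    (hker : ∀ (rels : Set (FreeGroup (Fin 3))), PresentedGroup.mk rels e = 1 →
      ∀ φ : SpecialLinearGroup (Fin 2) F →* PresentedGroup rels, φ (wm 1) = PresentedGroup.of 1 →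
        π.ker ≤ φ.ker) :
    ∃ rels : Finset (FreeGroup (Fin 3)), rels.card ≤ 9 ∧
      Nonempty (PresentedGroup (↑rels : Set (FreeGroup (Fin 3))) ≃* G) := by
  classical
  haveI : CharP F p := (Algebra.charP_iff (ZMod p) F p).1 inferInstance
  have h2 : (2 : F) ≠ 0 := by
    intro e
    have := (CharP.cast_eq_zero_iff F p 2).1 (by exact_mod_cast e)
    exact hp2 ((Nat.prime_dvd_prime_iff_eq hp.out Nat.prime_two).1 this)
  obtain ⟨ω, hω0, hord, hω⟩ := exists_primitive (F := F)
  have hsq : ∀ β : F, ∃ f : (ZMod p)[X], aeval (ω ^ 2) f = β :=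
    exists_aeval_eq hn (ω ^ 2) (sq_not_fixed hn hω0 hord)
  obtain ⟨m, k, hmk, hgen⟩ : ∃ m k : ℕ, (3 ≤ n → (ω ^ m) ^ 2 + 1 = (ω ^ k) ^ 2) ∧
      ∀ β : F, ∃ f : (ZMod p)[X], aeval ((ω ^ m) ^ 2) f = β := by
    rcases Nat.lt_or_ge n 3 with hn3 | hn3
    · exact ⟨1, 0, fun h => absurd h (by omega), by rwa [pow_one]⟩
    · obtain ⟨x, y, hx, hy, hxy, hfix⟩ := exists_two_squares hn hp2 hn3 h2
      obtain ⟨m, rfl⟩ := hω x hx
      obtain ⟨k, rfl⟩ := hω y hy
      exact ⟨m, k, fun _ => hxy, exists_aeval_eq hn _ hfix⟩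
  set α := (ω ^ m) ^ 2 with hα
  obtain ⟨g2, hg2⟩ := hgen (ω ^ 2)
  obtain ⟨g1, hg1⟩ := hgen ω
  obtain ⟨gi, hgi⟩ := hgen ω⁻¹
  set μ := minpoly (ZMod p) α with hμ
  let U : FreeGroup (Fin 3) := FreeGroup.of 0
  let T : FreeGroup (Fin 3) := FreeGroup.of 1
  let Hh : FreeGroup (Fin 3) := FreeGroup.of 2
  let A : FreeGroup (Fin 3) := Hh ^ m
  let r1 := U ^ p
  let r2 := U * conjPow U A 1 * U⁻¹ * (conjPow U A 1)⁻¹
  let r3 := if 3 ≤ n then Hh ^ k * U * (Hh ^ k)⁻¹ * (U * conjPow U A 1)⁻¹ else 1
  let r4 := pw U A μ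
  let r5 := Hh * U * Hh⁻¹ * (pw U A g2)⁻¹
  let r6 := T * Hh * T⁻¹ * Hh
  let r7 := T⁻¹ * (U * (T * U * T⁻¹) * U)
  let r8 := Hh⁻¹ * (pw U A g1 * (T * pw U A gi * T⁻¹) * pw U A g1 * T⁻¹)
  let rels : Finset (FreeGroup (Fin 3)) := {r1, r2, r3, r4, r5, r6, r7, r8, e}
  refine ⟨rels, le_trans (Finset.card_insert_le _ _) (Nat.succ_le_succ (le_trans (Finset.card_insert_le _ _) (Nat.succ_le_succ (le_trans (Finset.card_insert_le _ _) (Nat.succ_le_succ (le_trans (Finset.card_insert_le _ _) (Nat.succ_le_succ Finset.card_le_five))))))), ?_⟩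
  set R : Set (FreeGroup (Fin 3)) := ↑rels
  have hval : ∀ r ∈ R, π (FreeGroup.lift (gens ω) r) = 1 := by
    have hU : FreeGroup.lift (gens ω) U = upper 1 := FreeGroup.lift_apply_of
    have hT : FreeGroup.lift (gens ω) T = wm 1 := FreeGroup.lift_apply_of
    have hH : FreeGroup.lift (gens ω) Hh = hm ω := FreeGroup.lift_apply_of
    have hA : FreeGroup.lift (gens ω) A = hm ω ^ m := by rw [map_pow, hH]
    have hpwU : ∀ f : (ZMod p)[X], FreeGroup.lift (gens ω) (pw U A f) = upper (aeval α f) := fun f => by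
      rw [map_pw, hU, hA, upper_pw hω0]
    have hc1 : FreeGroup.lift (gens ω) (conjPow U A 1) = upper α := by
      rw [conjPow, pow_one, map_mul, map_mul, map_inv, hU, hA, hm_pow hω0, hm_conj (pow_ne_zero _ hω0),
        mul_one]
    intro r hr
    simp only [R, rels, Finset.coe_insert, Finset.coe_singleton, Set.mem_insert_iff,
      Set.mem_singleton_iff] at hr
    rcases hr with rfl | rfl | rfl | rfl | rfl | rfl | rfl | rfl | rfl
    · simp [r1, hU, upper_pow, upper_zero, CharP.cast_eq_zero F p]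
    · rw [show FreeGroup.lift (gens ω) r2 = 1 by
        simp only [r2, map_mul, map_inv, hU, hc1]
        rw [mul_inv_eq_one, mul_inv_eq_iff_eq_mul, ← upper_add, ← upper_add, add_comm], map_one]
    · simp only [r3]
      split
      · rename_i h3
        rw [show FreeGroup.lift (gens ω) (Hh ^ k * U * (Hh ^ k)⁻¹ * (U * conjPow U A 1)⁻¹) = 1 by
          simp only [map_mul, map_inv, map_pow, hU, hH, hc1, hm_pow hω0, hm_conj (pow_ne_zero _ hω0),
            ← upper_add, mul_one, ← hmk h3]
          rw [add_comm, mul_inv_cancel], map_one]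
      · simp
    · simp [r4, hpwU, μ, upper_zero]
    · rw [show FreeGroup.lift (gens ω) r5 = 1 by
        simp only [r5, map_mul, map_inv, hU, hH, hpwU, hg2, hm_conj hω0, mul_one, mul_inv_cancel], map_one]
    · rw [show FreeGroup.lift (gens ω) r6 = 1 by
        simp only [r6, map_mul, map_inv, hT, hH, wm_hm hω0, inv_mul_cancel], map_one]
    · rw [show FreeGroup.lift (gens ω) r7 = 1 by
        simp only [r7, map_mul, map_inv, hT, hU, wm_upper, inv_mul_eq_one]
        simp [wm], map_one]
    · rw [show FreeGroup.lift (gens ω) r8 = 1 by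
        simp only [r8, map_mul, map_inv, hT, hH, hpwU, hg1, hgi, wm_upper, inv_mul_eq_one]
        have e1 : (wm (1 : F))⁻¹ = wm (-1) := by
          rw [inv_eq_iff_mul_eq_one]
          apply Subtype.ext
          rw [val_mul', val_wm one_ne_zero, val_wm (neg_ne_zero.2 one_ne_zero)]
          ext i j
          fin_cases i <;> fin_cases j <;> simp [Matrix.mul_apply, Fin.sum_univ_two]
        rw [e1, hm, wm], map_one]
    · exact he ω
  -- the relations in the presented group
  have hrel : ∀ r ∈ rels, PresentedGroup.mk R r = 1 := fun r hr => PresentedGroup.one_of_mem hr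
  set u := (PresentedGroup.of (rels := R) 0) with hu
  set t := (PresentedGroup.of (rels := R) 1) with ht
  set h := (PresentedGroup.of (rels := R) 2) with hh
  have hmU : PresentedGroup.mk R U = u := rfl
  have hmT : PresentedGroup.mk R T = t := rfl
  have hmH : PresentedGroup.mk R Hh = h := rfl
  have hmA : PresentedGroup.mk R A = h ^ m := by rw [map_pow, hmH]
  have hmpw : ∀ f : (ZMod p)[X], PresentedGroup.mk R (pw U A f) = pw u (h ^ m) f := fun f => by
    rw [map_pw, hmU, hmA]
  have hmc : PresentedGroup.mk R (conjPow U A 1) = conjPow u (h ^ m) 1 := by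
    simp only [conjPow, map_mul, map_pow, map_inv, hmU, hmA]
  have e1 : u ^ p = 1 := by simpa [r1, hmU] using hrel r1 (by simp [rels])
  have e2 : Commute u (conjPow u (h ^ m) 1) := by
    have := hrel r2 (by simp [rels])
    simp only [r2, map_mul, map_inv, hmU, hmc] at this
    exact mul_inv_eq_iff_eq_mul.1 (mul_inv_eq_one.1 this)
  have e4 : pw u (h ^ m) μ = 1 := by
    have := hrel r4 (by simp [rels]); rwa [hmpw] at this
  have hμ1 : 1 ≤ μ.natDegree := minpoly.natDegree_pos (Algebra.IsIntegral.isIntegral α)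
  have hc : ∀ i j, Commute (conjPow u (h ^ m) i) (conjPow u (h ^ m) j) := by
    by_cases h3 : 3 ≤ n
    · refine commute_conjPow (b := h ^ k) (Commute.pow_pow (Commute.refl h) m k) e2 ?_
      have := hrel r3 (by simp [rels])
      simp only [r3, if_pos h3, map_mul, map_inv, map_pow, hmU, hmH, hmc] at this
      exact mul_inv_eq_one.1 this
    · refine commute_conjPow_of_small e2 (minpoly.monic (Algebra.IsIntegral.isIntegral α)) hμ1 ?_ e4
      have hd := minpoly.natDegree_le (A := ZMod p) α
      have hF : Module.finrank (ZMod p) F = n := by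
        have h2 := Module.card_eq_pow_finrank (K := ZMod p) (V := F)
        rw [ZMod.card, hn] at h2
        exact (Nat.pow_right_injective hp.out.two_le h2).symm
      omega
  obtain ⟨x, hxadd, hx1, hxa, hxpw⟩ := exists_param e1 hc α hgen e4
  have e5 : h * x 1 * h⁻¹ = x (ω ^ 2) := by
    have := hrel r5 (by simp [rels])
    simp only [r5, map_mul, map_inv, hmU, hmH, hmpw, hxpw, hg2] at this
    rw [hx1]; exact mul_inv_eq_one.1 this
  refine nonempty_equiv π hπ R ω hω0 hω hsq hval x hxadd hx1
    (fun b => param_equivariant (p := p) ((Commute.refl h).pow_left m) x hxadd α (ω ^ 2) hgen hxa e5 b)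
    ?_ ?_ ?_ (hker R (hrel e (by simp [rels])))
  · have := hrel r6 (by simp [rels])
    simp only [r6, map_mul, map_inv, hmT, hmH] at this
    exact eq_inv_of_mul_eq_one_left this
  · have := hrel r7 (by simp [rels])
    simp only [r7, map_mul, map_inv, hmT, hmU] at this
    exact inv_mul_eq_one.1 this
  · left
    have := hrel r8 (by simp [rels])
    simp only [r8, map_mul, map_inv, hmT, hmH, hmpw, hxpw, hg1, hgi] at this
    exact inv_mul_eq_one.1 this

end Odd

section Two

variable {F : Type*} [Field F] [Fintype F] [Algebra (ZMod 2) F]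

/-- in characteristic 2, five relations -/
theorem two_presentation {n : ℕ} (hn : Fintype.card F = 2 ^ n) {G : Type*} [Group G]
    (π : SpecialLinearGroup (Fin 2) F →* G) (hπ : Function.Bijective π) :
    ∃ rels : Finset (FreeGroup (Fin 3)), rels.card ≤ 5 ∧
      Nonempty (PresentedGroup (↑rels : Set (FreeGroup (Fin 3))) ≃* G) := by
  classical
  haveI : CharP F 2 := (Algebra.charP_iff (ZMod 2) F 2).1 inferInstance
  have h20 : (2 : F) = 0 := CharTwo.two_eq_zero
  obtain ⟨ω, hω0, hord, hω⟩ := exists_primitive (F := F)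
  have hn0 : n ≠ 0 := fun e => by rw [e, pow_zero] at hn; exact absurd hn Fintype.one_lt_card.ne'
  have hqeven : 2 * (Fintype.card F / 2) = Fintype.card F :=
    Nat.mul_div_cancel' (hn ▸ dvd_pow_self 2 hn0)
  have hωq : ω ^ Fintype.card F = ω := FiniteField.pow_card ω
  have hsq : ∀ β : F, ∃ f : (ZMod 2)[X], aeval (ω ^ 2) f = β :=
    exists_aeval_eq hn (ω ^ 2) (sq_not_fixed hn hω0 hord)
  obtain ⟨k, hk⟩ : ∃ k : ℕ, ω ^ 2 ≠ 1 → ω ^ 2 + 1 = (ω ^ k) ^ 2 := by
    by_cases h : ω ^ 2 = 1
    · exact ⟨0, fun h' => absurd h h'⟩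
    · have hne : ω ^ 2 + 1 ≠ 0 := fun e => h (by rw [eq_neg_of_add_eq_zero_left e, CharTwo.neg_eq])
      obtain ⟨j, hj⟩ := hω _ hne
      refine ⟨j * (Fintype.card F / 2), fun _ => ?_⟩
      rw [← pow_mul, mul_assoc, mul_comm (Fintype.card F / 2) 2, hqeven, ← hj, mul_comm, pow_mul, hωq]
  set μ := minpoly (ZMod 2) (ω ^ 2) with hμ
  let U : FreeGroup (Fin 3) := FreeGroup.of 0
  let T : FreeGroup (Fin 3) := FreeGroup.of 1
  let Hh : FreeGroup (Fin 3) := FreeGroup.of 2
  let r1 := U ^ 2
  let r2 := if ω ^ 2 = 1 then Hh else Hh ^ k * U * (Hh ^ k)⁻¹ * (U * conjPow U Hh 1)⁻¹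
  let r3 := Hh ^ (Fintype.card F - 1) * (pw U Hh μ)⁻¹
  let r4 := T * Hh * T⁻¹ * Hh
  let r5 := T⁻¹ * (U * (T * U * T⁻¹) * U)
  let rels : Finset (FreeGroup (Fin 3)) := {r1, r2, r3, r4, r5}
  refine ⟨rels, Finset.card_le_five, ?_⟩
  set R : Set (FreeGroup (Fin 3)) := ↑rels
  have hval : ∀ r ∈ R, π (FreeGroup.lift (gens ω) r) = 1 := by
    have hU : FreeGroup.lift (gens ω) U = upper 1 := FreeGroup.lift_apply_of
    have hT : FreeGroup.lift (gens ω) T = wm 1 := FreeGroup.lift_apply_of
    have hH : FreeGroup.lift (gens ω) Hh = hm ω := FreeGroup.lift_apply_of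
    have hpwU : ∀ f : (ZMod 2)[X], FreeGroup.lift (gens ω) (pw U Hh f) = upper (aeval (ω ^ 2) f) := by
      intro f
      have := upper_pw (p := 2) hω0 1 f
      rw [pow_one, pow_one] at this
      rw [map_pw, hU, hH, this]
    have hc1 : FreeGroup.lift (gens ω) (conjPow U Hh 1) = upper (ω ^ 2) := by
      rw [conjPow, pow_one, map_mul, map_mul, map_inv, hU, hH, hm_conj hω0, mul_one]
    intro r hr
    simp only [R, rels, Finset.coe_insert, Finset.coe_singleton, Set.mem_insert_iff,
      Set.mem_singleton_iff] at hr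
    rcases hr with rfl | rfl | rfl | rfl | rfl
    · simp [r1, hU, upper_pow, upper_zero, h20]
    · simp only [r2]
      split
      · rename_i h1
        have : ω = 1 := by
          rcases sq_eq_one_iff.1 h1 with h | h
          · exact h
          · rw [h, CharTwo.neg_eq]
        rw [hH, this, hm_one, map_one]
      · rename_i h1
        rw [show FreeGroup.lift (gens ω) (Hh ^ k * U * (Hh ^ k)⁻¹ * (U * conjPow U Hh 1)⁻¹) = 1 by
          simp only [map_mul, map_inv, map_pow, hU, hH, hc1, hm_pow hω0, hm_conj (pow_ne_zero _ hω0),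
            ← upper_add, mul_one, ← hk h1]
          rw [add_comm, mul_inv_cancel], map_one]
    · rw [show FreeGroup.lift (gens ω) r3 = 1 by
        simp only [r3, map_mul, map_inv, map_pow, hH, hm_pow hω0, hpwU, μ, minpoly.aeval, upper_zero,
          inv_one, mul_one, FiniteField.pow_card_sub_one_eq_one ω hω0, hm_one], map_one]
    · rw [show FreeGroup.lift (gens ω) r4 = 1 by
        simp only [r4, map_mul, map_inv, hT, hH, wm_hm hω0, inv_mul_cancel], map_one]
    · rw [show FreeGroup.lift (gens ω) r5 = 1 by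
        simp only [r5, map_mul, map_inv, hT, hU, wm_upper, inv_mul_eq_one]
        simp [wm], map_one]
  have hrel : ∀ r ∈ rels, PresentedGroup.mk R r = 1 := fun r hr => PresentedGroup.one_of_mem hr
  set u := (PresentedGroup.of (rels := R) 0) with hu
  set t := (PresentedGroup.of (rels := R) 1) with ht
  set h := (PresentedGroup.of (rels := R) 2) with hh
  have hmU : PresentedGroup.mk R U = u := rfl
  have hmT : PresentedGroup.mk R T = t := rfl
  have hmH : PresentedGroup.mk R Hh = h := rfl
  have hmpw : ∀ f : (ZMod 2)[X], PresentedGroup.mk R (pw U Hh f) = pw u h f := fun f => by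
    rw [map_pw, hmU, hmH]
  have e1 : u ^ 2 = 1 := by simpa [r1, hmU] using hrel r1 (by simp [rels])
  have e3 : h ^ (Fintype.card F - 1) = pw u h μ := by
    have := hrel r3 (by simp [rels])
    simp only [r3, map_mul, map_inv, map_pow, hmH, hmpw] at this
    exact mul_inv_eq_one.1 this
  have huinv : ∀ y : PresentedGroup R, y ^ 2 = 1 → y⁻¹ = y := fun y hy =>
    inv_eq_of_mul_eq_one_right (by rw [← sq]; exact hy)
  -- the conjugates commute, and the word of the minimal polynomial vanishes
  obtain ⟨hc, e4⟩ : (∀ i j, Commute (conjPow u h i) (conjPow u h j)) ∧ pw u h μ = 1 := by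
    by_cases hω1 : ω ^ 2 = 1
    · have hh1 : h = 1 := by
        have := hrel r2 (by simp [rels])
        simp only [r2, if_pos hω1, hmH] at this
        exact this
      refine ⟨fun i j => ?_, ?_⟩
      · simp only [conjPow, hh1]; simp
      · rw [← e3, hh1, one_pow]
    · have e2 : h ^ k * u * (h ^ k)⁻¹ = u * conjPow u h 1 := by
        have := hrel r2 (by simp [rels])
        simp only [r2, if_neg hω1, conjPow, map_mul, map_inv, map_pow, hmU, hmH] at this
        simp only [conjPow]
        exact mul_inv_eq_one.1 this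
      have hu1 : Commute u (conjPow u h 1) := by
        have ha : (u * conjPow u h 1) ^ 2 = 1 := by
          rw [← e2, conj_pow, e1]; group
        have hb : conjPow u h 1 ^ 2 = 1 := by
          rw [conjPow, conj_pow, e1]; group
        have := huinv _ ha
        rw [_root_.mul_inv_rev, huinv _ hb, huinv _ e1] at this
        exact this.symm
      have hcc := commute_conjPow (Commute.pow_right (Commute.refl h) k) hu1 e2
      refine ⟨hcc, ?_⟩
      obtain ⟨P, hPadd, hP, hPX⟩ := exists_polyHom e1 hcc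
      have hP0 : P 0 = 1 := by
        have := hPadd 0 0
        rwa [add_zero, left_eq_mul] at this
      have hXpow : ∀ i f, P (X ^ i * f) = h ^ i * P f * (h ^ i)⁻¹ := by
        intro i f
        induction i with
        | zero => simp
        | succ i ih => rw [pow_succ', mul_assoc, hPX, ih, pow_succ']; group
      -- a vanishing word gives a vanishing ideal
      have hideal : ∀ a f, P f = 1 → P (a * f) = 1 := by
        intro a f hf
        induction a using Polynomial.induction_on' with
        | add a b ha hb => rw [add_mul, hPadd, ha, hb, one_mul]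
        | monomial i c =>
          rw [← C_mul_X_pow_eq_monomial, ← ZMod.natCast_zmod_val c, map_natCast, mul_assoc]
          induction c.val with
          | zero => rw [Nat.cast_zero, zero_mul, hP0]
          | succ n ih => rw [Nat.cast_succ, add_mul, one_mul, hPadd, ih, hXpow, hf]; group
      have hP1 : P 1 = u := by
        rw [hP]; simp [pw, conjPow_zero, ZMod.val_one 2]
      have hν : P (X ^ k + (X + 1)) = 1 := by
        rw [hPadd, hPadd, show (X : (ZMod 2)[X]) = X * 1 from (mul_one _).symm, hPX, hP1,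
          show (X * 1 : (ZMod 2)[X]) ^ k = X ^ k * 1 by rw [mul_one, mul_one], hXpow, hP1, e2]
        have hx : h * u * h⁻¹ = conjPow u h 1 := by simp [conjPow]
        rw [hx]
        calc u * conjPow u h 1 * (conjPow u h 1 * u)
            = u * (conjPow u h 1) ^ 2 * u := by rw [sq]; group
          _ = 1 := by rw [conjPow, conj_pow, e1]; simp [← sq, e1]
      set c := pw u h μ with hc'
      have hcomm : Commute h c := by rw [← e3]; exact Commute.self_pow h _
      have hcX : ∀ i, P (X ^ i * μ) = c := fun i => by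
        rw [hXpow, hP, ← hc', ((hcomm.pow_left i)).eq, mul_inv_cancel_right]
      have := hideal μ _ hν
      rw [mul_add, mul_add, mul_one, hPadd, hPadd, mul_comm μ, mul_comm μ, hcX,
        show (X : (ZMod 2)[X]) * μ = X ^ 1 * μ by rw [pow_one], hcX, hP, ← hc'] at this
      have hc2 : c ^ 2 = 1 := by
        have : P (μ + μ) = 1 := by rw [CharTwo.add_self_eq_zero, hP0]
        rwa [hPadd, hP, ← hc', ← sq] at this
      rw [← sq, hc2, mul_one] at this
      exact this
  obtain ⟨x, hxadd, hx1, hxa, hxpw⟩ := exists_param e1 hc (ω ^ 2) hsq e4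
  refine nonempty_equiv π hπ.2 R ω hω0 hω hsq hval x hxadd hx1 hxa ?_ ?_ ?_
    (fun φ _ => by rw [(MonoidHom.ker_eq_bot_iff π).2 hπ.1]; exact bot_le)
  · have := hrel r4 (by simp [rels])
    simp only [r4, map_mul, map_inv, hmT, hmH] at this
    exact eq_inv_of_mul_eq_one_left this
  · have := hrel r5 (by simp [rels])
    simp only [r5, map_mul, map_inv, hmT, hmU] at this
    exact inv_mul_eq_one.1 this
  · right
    refine ⟨Fintype.card F / 2, h20, by rw [hqeven]; exact hωq, ?_⟩
    rw [hqeven]
    have h1 : h ^ (Fintype.card F - 1) = 1 := e3.trans e4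
    calc h ^ Fintype.card F = h ^ (Fintype.card F - 1) * h := by
          rw [← pow_succ, Nat.sub_add_cancel Fintype.card_pos]
      _ = h := by rw [h1, one_mul]

end Two

/-- the kernel of `SL₂ → PSL₂` is killed once the square of the Weyl element is -/
theorem center_le_ker {F : Type*} [Field F] {H : Type*} [Group H]
    (φ : SpecialLinearGroup (Fin 2) F →* H) (h : φ (wm 1) ^ 2 = 1) :
    Subgroup.center (SpecialLinearGroup (Fin 2) F) ≤ φ.ker := by
  intro z hz
  obtain ⟨r, hr, hrz⟩ := Matrix.SpecialLinearGroup.mem_center_iff.1 hz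
  rw [Fintype.card_fin] at hr
  rcases sq_eq_one_iff.1 hr with rfl | rfl
  · have : z = 1 := Subtype.ext (by rw [← hrz]; simp)
    rw [this]; exact one_mem _
  · have : z = wm 1 * wm 1 := by
      apply Subtype.ext
      rw [← hrz, val_mul', val_wm one_ne_zero]
      ext i j
      fin_cases i <;> fin_cases j <;> simp [Matrix.mul_apply, Fin.sum_univ_two]
    rw [MonoidHom.mem_ker, this, map_mul, ← sq, h]

/-- in characteristic two the centre is trivial -/
theorem center_eq_bot_of_two {F : Type*} [Field F] (h2 : (2 : F) = 0) :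
    Subgroup.center (SpecialLinearGroup (Fin 2) F) = ⊥ := by
  refine le_bot_iff.1 fun z hz => ?_
  obtain ⟨r, hr, hrz⟩ := Matrix.SpecialLinearGroup.mem_center_iff.1 hz
  rw [Fintype.card_fin] at hr
  have hr1 : r = 1 := by
    rcases sq_eq_one_iff.1 hr with h | h
    · exact h
    · rw [h]; linear_combination -h2
  rw [Subgroup.mem_bot]
  exact Subtype.ext (by rw [← hrz, hr1]; simp)

end CfsgLib.Lie.ShortPres
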