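import Cfsg.Agent.Lib.Lie.ShortPres.B2Data

/-!
# Parameters for the relations over any finite field
-/

set_option autoImplicit false

namespace CfsgLib.Lie.ShortPres.BTwo

open Polynomial

variable {F : Type*} [Field F] [Fintype F] {p : ℕ} [hp : Fact p.Prime] [Algebra (ZMod p) F]

theorem exists_prm {n : ℕ} (hn : Fintype.card F = p ^ n) :
    ∃ (P : Prm p) (ω : F), P.Ok ω := by
  classical
  haveI : CharP F p := (Algebra.charP_iff (ZMod p) F p).1 inferInstance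
  obtain ⟨ω, hω0, hord, hω⟩ := exists_primitive (F := F)
  have gen2 : ∀ β : F, ∃ f : (ZMod p)[X], aeval (ω ^ 2) f = β :=
    exists_aeval_eq hn _ (sq_not_fixed hn hω0 hord)
  have gen : ∀ β : F, ∃ f : (ZMod p)[X], aeval ω f = β := by
    intro β
    obtain ⟨f, hf⟩ := gen2 β
    exact ⟨f.comp (X ^ 2), by rw [aeval_comp, map_pow, aeval_X, hf]⟩
  obtain ⟨m, k, hgen, hmk⟩ : ∃ m k : ℕ, (∀ β : F, ∃ f : (ZMod p)[X], aeval ((ω ^ m) ^ 2) f = β) ∧
      (3 ≤ n → (ω ^ k) ^ 2 = 1 + (ω ^ m) ^ 2) := by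
    rcases Nat.lt_or_ge n 3 with hn3 | hn3
    · exact ⟨1, 0, by rwa [pow_one], fun h => absurd h (by omega)⟩
    by_cases hp2 : p = 2
    · subst hp2
      haveI : CharP F 2 := inferInstance
      obtain ⟨h, hh⟩ : ∃ h : ℕ, 2 * h = Fintype.card F :=
        ⟨2 ^ (n - 1), by rw [hn, ← pow_succ', show n - 1 + 1 = n by omega]⟩
      have hsq : ∀ a : F, (a ^ h) ^ 2 = a := fun a => by
        rw [← pow_mul, mul_comm, hh, FiniteField.pow_card]
      have hω1 : ω + 1 ≠ 0 := by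
        intro e
        refine sq_not_fixed hn hω0 hord 1 le_rfl (by omega) ?_
        rw [eq_neg_of_add_eq_zero_left e, CharTwo.neg_eq]
        simp
      obtain ⟨k', hk'⟩ := hω _ hω1
      refine ⟨h, k' * h, by rw [hsq]; exact gen, fun _ => ?_⟩
      rw [pow_mul, hsq, hsq, hk', add_comm]
    · have h2 : (2 : F) ≠ 0 := by
        intro e
        have := (CharP.cast_eq_zero_iff F p 2).1 (by exact_mod_cast e)
        exact hp2 ((Nat.prime_dvd_prime_iff_eq hp.out Nat.prime_two).1 this)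
      obtain ⟨x, y, hx, hy, hxy, hfix⟩ := exists_two_squares hn hp2 hn3 h2
      obtain ⟨m, rfl⟩ := hω x hx
      obtain ⟨k, rfl⟩ := hω y hy
      exact ⟨m, k, exists_aeval_eq hn _ hfix, fun _ => by rw [← hxy, add_comm]⟩
  obtain ⟨k0, hk0⟩ : ∃ k0 : ℕ, 3 ≤ n → ω ^ k0 = 1 + ω := by
    by_cases h3 : 3 ≤ n
    · obtain ⟨k0, hk0⟩ := hω (1 + ω) (by
        intro e
        refine sq_not_fixed hn hω0 hord 1 le_rfl (by omega) ?_
        rw [eq_neg_of_add_eq_zero_right e]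
        simp)
      exact ⟨k0, fun _ => hk0⟩
    · exact ⟨0, fun h => absurd h h3⟩
  obtain ⟨gi, hgi⟩ := gen ω⁻¹
  obtain ⟨g2, hg2⟩ := hgen (ω ^ 2)
  obtain ⟨g1, hg1⟩ := hgen ω
  obtain ⟨gj, hgj⟩ := hgen ω⁻¹
  have hdeg : ∀ a : F, (minpoly (ZMod p) a).natDegree ≤ n := by
    intro a
    have hF : Module.finrank (ZMod p) F = n := by
      have h2 := Module.card_eq_pow_finrank (K := ZMod p) (V := F)
      rw [ZMod.card, hn] at h2
      exact (Nat.pow_right_injective hp.out.two_le h2).symm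
    exact hF ▸ minpoly.natDegree_le a
  refine ⟨⟨m, k, k0, decide (3 ≤ n), minpoly (ZMod p) ω, minpoly (ZMod p) ((ω ^ m) ^ 2), gi, g2, g1, gj⟩,
    ω, ?_⟩
  refine ⟨hω0, hω, gen, gen2, hgen, rfl, rfl, hgi, hg2, hg1, hgj, fun h => ?_, fun h => ?_, fun h => ?_⟩
  · have h3 : ¬ 3 ≤ n := by simpa using h
    exact ⟨(hdeg _).trans (by omega), (hdeg _).trans (by omega)⟩
  · exact hk0 (by simpa using h)
  · exact hmk (by simpa using h)

end CfsgLib.Lie.ShortPres.BTwo
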