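import Cfsg.Agent.Lib.Lie.ShortPres.SL2
import Cfsg.Agent.Lib.Char.SingleBond.SteinbergHom

/-!
# The special linear group of degree three from four elements

A one-parameter family, a Weyl element `t`, a rotation `c` and a torus element `d` that acts as the
field generator on the family.
-/

set_option autoImplicit false

namespace CfsgLib.Lie.ShortPres

open Matrix CfsgLib.Lie.SL2Rel CfsgLib.Lie.SL2Rel.Fam CfsgLib.Char.SingleBond

variable {K : Type*} [Field K] {H : Type*} [Group H]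

/-- `z` scales the family `X` by `r` -/
def Act (z : H) (X : K → H) (r : K) : Prop := ∀ b, z * X b * z⁻¹ = X (r * b)

theorem Act.conj {z : H} {X : K → H} {r : K} (h : Act z X r) (g : H) :
    Act (g * z * g⁻¹) (fun b => g * X b * g⁻¹) r := fun b => by
  calc g * z * g⁻¹ * (g * X b * g⁻¹) * (g * z * g⁻¹)⁻¹ = g * (z * X b * z⁻¹) * g⁻¹ := by group
    _ = g * X (r * b) * g⁻¹ := by rw [h b]

theorem Act.comp_neg {z : H} {X : K → H} {r : K} (h : Act z X r) : Act z (fun b => X (-b)) r := fun b => by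
  show z * X (-b) * z⁻¹ = X (-(r * b))
  rw [h, mul_neg]

theorem Act.inv {z : H} {X : K → H} {r : K} (h : Act z X r) (hr : r ≠ 0) : Act z⁻¹ X r⁻¹ := fun b => by
  have := h (r⁻¹ * b)
  rw [mul_inv_cancel_left₀ hr] at this
  rw [← this]; group

theorem Act.mul {z w : H} {X : K → H} {r s : K} (h : Act z X r) (k : Act w X s) :
    Act (z * w) X (r * s) := fun b => by
  calc z * w * X b * (z * w)⁻¹ = z * (w * X b * w⁻¹) * z⁻¹ := by group
    _ = X (r * s * b) := by rw [k b, h, mul_assoc]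

/-- a torus element acting by a primitive element gives the map from `SL(2, K)` -/
theorem exists_hom_torus [Finite K] (u t d : H) (ω : K) (hω0 : ω ≠ 0)
    (hω : ∀ s : K, s ≠ 0 → ∃ n : ℕ, ω ^ n = s)
    (x : K → H) (hadd : ∀ b c, x (b + c) = x b * x c) (h1 : x 1 = u)
    (hd : Act d x ω) (hd' : Act (t⁻¹ * d * t) x ω⁻¹) (htu : t = u * (t * u * t⁻¹) * u) :
    ∃ φ : SpecialLinearGroup (Fin 2) K →* H, φ (wm 1) = t ∧ φ (hm ω) = d * t * d⁻¹ * t⁻¹ ∧
      (∀ b, φ (upper b) = x b) ∧ ∀ b, φ (lower b) = t * x (-b) * t⁻¹ := by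
  have hx0 : x 0 = 1 := by
    have := hadd 0 0
    rwa [add_zero, left_eq_mul] at this
  have hxn : ∀ b, x (-b) = (x b)⁻¹ := fun b =>
    eq_inv_of_mul_eq_one_left (by rw [← hadd, neg_add_cancel, hx0])
  set y : K → H := fun v => t * x (-v) * t⁻¹ with hy
  have hyadd : ∀ b c, y (b + c) = y b * y c := fun b c => by
    simp only [hy]; rw [neg_add, hadd]; group
  have hdy : Act d y ω⁻¹ := fun v => by
    have := hd'.comp_neg.conj t v
    simp only [hy] at this ⊢
    rw [← this]; group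
  set w : K → H := fun s => x s * y (-s⁻¹) * x s with hw
  have hwd : ∀ s, d * w s * d⁻¹ = w (ω * s) := by
    intro s
    simp only [hw]
    rw [← hd s, show -(ω * s)⁻¹ = ω⁻¹ * -s⁻¹ by rw [mul_inv]; ring, ← hdy]
    group
  set P : K → Prop := fun s => ∀ v, w s * x v * (w s)⁻¹ = y (-(s⁻¹ ^ 2 * v)) with hP
  have hw1 : w 1 = t := by
    simp only [hw, hy, inv_one, neg_neg, h1]
    exact htu.symm
  have hP1 : P 1 := by
    intro v
    rw [hw1]
    simp [hy]
  have hstep : ∀ s, P s → P (ω * s) := by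
    intro s hs v
    have e : x v = d * x (ω⁻¹ * v) * d⁻¹ := by rw [hd, mul_inv_cancel_left₀ hω0]
    calc w (ω * s) * x v * (w (ω * s))⁻¹
        = (d * w s * d⁻¹) * (d * x (ω⁻¹ * v) * d⁻¹) * (d * w s * d⁻¹)⁻¹ := by rw [hwd, ← e]
      _ = d * (w s * x (ω⁻¹ * v) * (w s)⁻¹) * d⁻¹ := by group
      _ = d * y (-(s⁻¹ ^ 2 * (ω⁻¹ * v))) * d⁻¹ := by rw [hs]
      _ = y (-((ω * s)⁻¹ ^ 2 * v)) := by rw [hdy]; congr 1; rw [mul_inv]; ring
  have hall : ∀ s, s ≠ 0 → P s := by
    intro s hs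
    obtain ⟨n, rfl⟩ := hω s hs
    clear hs
    induction n with
    | zero => simpa using hP1
    | succ n ih => rw [pow_succ']; exact hstep _ ih
  let F : Fam K H :=
    { x := x, y := y, x_add := hadd, y_add := hyadd, rel := fun s v hs => hall s hs v }
  have hm' := F.mult_of_finite
  refine ⟨F.hom hm', ?_, ?_, F.hom_upper hm', F.hom_lower hm'⟩
  · rw [wm, map_mul, map_mul, F.hom_upper, F.hom_lower]
    exact hw1
  · rw [hm, map_mul, wm, wm, map_mul, map_mul, map_mul, map_mul, F.hom_upper, F.hom_lower, F.hom_upper,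
      F.hom_lower]
    show w ω * w (-1) = d * t * d⁻¹ * t⁻¹
    have hneg : w (-1) = (w 1)⁻¹ := by
      simp only [hw, inv_neg, inv_one, neg_neg, hxn]
      simp only [hy, neg_neg, hxn]
      group
    rw [hneg, ← mul_one ω, ← hwd, hw1]

/-- two one-parameter conditions spread over the field -/
theorem extend {ω ν : K} (hω0 : ω ≠ 0) (hν : ν ≠ 0) (hω : ∀ s : K, s ≠ 0 → ∃ n : ℕ, ω ^ n = s)
    (E : Set K) (hE : ∀ S : K → Prop, S 0 → (∀ b c, S b → S c → S (b + c)) → (∀ b, S b → S (ω ^ 3 * b)) →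
      (∀ b ∈ E, S b) → ∀ b, S b)
    (S : K → K → Prop) (h00 : ∀ b, S 0 b) (h0 : S 1 0) (hadd : ∀ b c, S 1 b → S 1 c → S 1 (b + c))
    (hz : ∀ b, S 1 b → S 1 (ω ^ 3 * b)) (hs : ∀ a b, S a b → S (ω⁻¹ * a) (ν * b))
    (hbase : ∀ b ∈ E, S 1 b) (a b : K) : S a b := by
  rcases eq_or_ne a 0 with rfl | ha
  · exact h00 b
  obtain ⟨n, hn⟩ := hω a⁻¹ (inv_ne_zero ha)
  have h1 := hE (S 1) h0 hadd hz hbase
  have : ∀ n : ℕ, ∀ b, S (ω⁻¹ ^ n) b := by
    intro n
    induction n with
    | zero => simpa using h1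
    | succ n ih =>
      intro b
      have := hs _ _ (ih (ν⁻¹ * b))
      rwa [mul_inv_cancel_left₀ hν, ← pow_succ'] at this
  have e : ω⁻¹ ^ n = a := by rw [inv_pow, hn, inv_inv]
  exact e ▸ this n b

/-- the six families of degree three -/
def three (x : K → H) (t c : H) : Fin 3 → Fin 3 → K → H
  | 0, 1, b => x b
  | 1, 0, b => t * x (-b) * t⁻¹
  | 1, 2, b => c * x b * c⁻¹
  | 2, 0, b => c * (c * x (-b) * c⁻¹) * c⁻¹
  | 2, 1, b => c * (t * x (-b) * t⁻¹) * c⁻¹
  | 0, 2, b => c * (c * (t * x b * t⁻¹) * c⁻¹) * c⁻¹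
  | _, _, _ => 1

theorem three_stRel [Finite K] (u t c d : H) (ω : K) (hω0 : ω ≠ 0)
    (hω : ∀ s : K, s ≠ 0 → ∃ n : ℕ, ω ^ n = s)
    (x : K → H) (hadd : ∀ b c, x (b + c) = x b * x c) (h1 : x 1 = u)
    (hd : Act d x ω) (hd' : Act (t⁻¹ * d * t) x ω⁻¹) (htu : t = u * (t * u * t⁻¹) * u)
    (hcomm : Commute d (t⁻¹ * d * t)) (hc3 : c ^ 3 = 1) (hct : c = t * c * t * c⁻¹)
    (hdd : d = d * t * d⁻¹ * t⁻¹ * (c * (d * t * d⁻¹ * t⁻¹) * c⁻¹))
    (E : Set K) (hE : ∀ S : K → Prop, S 0 → (∀ b c, S b → S c → S (b + c)) → (∀ b, S b → S (ω ^ 3 * b)) →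
      (∀ b ∈ E, S b) → ∀ b, S b)
    (hA : ∀ b ∈ E, Commute u (three x t c 0 2 b)) (hB : ∀ b ∈ E, Commute u (three x t c 2 1 b))
    (hC : ∀ b ∈ E, u * three x t c 1 2 b * u⁻¹ * (three x t c 1 2 b)⁻¹ = three x t c 0 2 b) :
    StRel (three x t c) := by
  obtain ⟨φ, hwt, hhφ, hup, -⟩ := exists_hom_torus u t d ω hω0 hω x hadd h1 hd hd' htu
  have hx0 : x 0 = 1 := by
    have := hadd 0 0
    rwa [add_zero, left_eq_mul] at this
  set h := d * t * d⁻¹ * t⁻¹ with hh
  set h' := c * h * c⁻¹ with hh'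
  -- the square of `t`
  have hne : (-1 : K) ≠ 0 := neg_ne_zero.2 one_ne_zero
  have ht2 : t ^ 2 = φ (hm (-1)) := by
    rw [← hwt, ← map_pow]
    congr 1
    apply Subtype.ext
    rw [sq, val_mul', val_wm one_ne_zero, val_hm hne]
    ext i j
    fin_cases i <;> fin_cases j <;> simp [Matrix.mul_apply, Fin.sum_univ_two]
  obtain ⟨j, hj⟩ := hω (-1) hne
  have ht2h : t ^ 2 = h ^ j := by rw [ht2, ← hj, ← hm_pow hω0, map_pow, hhφ]
  have ht2x : ∀ b, t ^ 2 * x b * (t ^ 2)⁻¹ = x b := fun b => by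
    rw [ht2, ← hup, ← map_inv, ← map_mul, ← map_mul, hm_conj hne]
    norm_num
  have hth : t * h * t⁻¹ = h⁻¹ := by
    rw [← hhφ, ← hwt, ← map_inv, ← map_mul, ← map_mul, wm_hm hω0, map_inv]
  have ht2d : t * d * t⁻¹ = t⁻¹ * d * t := by
    have e : t * (d * t * d⁻¹ * t⁻¹) * t⁻¹ = t * d * t⁻¹ * d⁻¹ := by
      rw [← hh, hth, hh]; group
    have e2 : t * d⁻¹ * t⁻¹ * t⁻¹ = t⁻¹ * d⁻¹ := by
      calc t * d⁻¹ * t⁻¹ * t⁻¹ = (t * d)⁻¹ * (t * (d * t * d⁻¹ * t⁻¹) * t⁻¹) := by group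
        _ = t⁻¹ * d⁻¹ := by rw [e]; group
    have e3 : t * t * d = d * (t * t) := by
      have e4 : t * t * d * t⁻¹ * t⁻¹ = d := by
        calc t * t * d * t⁻¹ * t⁻¹ = (t * (t * d⁻¹ * t⁻¹ * t⁻¹))⁻¹ := by simp [mul_assoc]
          _ = d := by rw [e2]; group
      calc t * t * d = (t * t * d * t⁻¹ * t⁻¹) * (t * t) := by group
        _ = d * (t * t) := by rw [e4]
    calc t * d * t⁻¹ = t⁻¹ * (t * t * d) * t⁻¹ := by group
      _ = t⁻¹ * d * t := by rw [e3]; group
  have hh'd : h' = h⁻¹ * d := by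
    have : d = h * h' := hdd
    rw [eq_inv_mul_iff_mul_eq, ← this]
  have hh't : h' = t * d * t⁻¹ := by rw [hh'd, hh]; group
  have hh'x : Act h' x ω⁻¹ := by rw [hh't, ht2d]; exact hd'
  have hdh : Commute d h' := by rw [hh't, ht2d]; exact hcomm
  have hhx : Act h x (ω ^ 2) := by
    have e : h = d * h'⁻¹ := by
      have e1 : d = h * h' := hdd
      conv_rhs => rw [e1]
      group
    rw [e]
    have := hd.mul (hh'x.inv (inv_ne_zero hω0))
    rwa [inv_inv, ← sq] at this
  have hth' : t * h' * t⁻¹ = d := by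
    calc t * h' * t⁻¹ = t * (t⁻¹ * d * t) * t⁻¹ := by rw [hh't, ht2d]
      _ = d := by group
  -- the rotation
  have hct1 : c * t * c⁻¹ = t⁻¹ * c := by
    conv_rhs => rw [hct]
    group
  have hct2 : c * t = t⁻¹ * c * c := by rw [← hct1]; group
  have hc' : c * c = c⁻¹ := eq_inv_of_mul_eq_one_left (by rw [← hc3, pow_succ, sq])
  have hch' : c * h' * c⁻¹ = d⁻¹ := by
    have e1 : (c * t * c⁻¹) * h' * (c * t * c⁻¹)⁻¹ = h'⁻¹ := by
      calc (c * t * c⁻¹) * (c * h * c⁻¹) * (c * t * c⁻¹)⁻¹ = c * (t * h * t⁻¹) * c⁻¹ := by group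
        _ = (c * h * c⁻¹)⁻¹ := by rw [hth]; group
    calc c * h' * c⁻¹ = t * ((t⁻¹ * c) * h' * (t⁻¹ * c)⁻¹) * t⁻¹ := by group
      _ = t * h'⁻¹ * t⁻¹ := by rw [← hct1, e1]
      _ = d⁻¹ := by rw [← hth']; group
  have hcd : c * d⁻¹ * c⁻¹ = h := by
    rw [← hch']
    calc c * (c * h' * c⁻¹) * c⁻¹ = (c * c * c) * h * (c * c * c)⁻¹ := by rw [hh']; group
      _ = h := by rw [← sq, ← pow_succ, hc3]; group
  -- the weights
  set X23 : K → H := fun b => c * x b * c⁻¹ with hX23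
  set Y : K → H := fun b => t * x (-b) * t⁻¹ with hY
  set X32 : K → H := fun b => c * Y b * c⁻¹ with hX32
  set X13 : K → H := fun b => c * (c * (t * x b * t⁻¹) * c⁻¹) * c⁻¹ with hX13
  have hdinv : Act d⁻¹ x ω⁻¹ := hd.inv hω0
  have a23h : Act h X23 ω⁻¹ := by rw [← hcd]; exact hdinv.conj c
  have a23h' : Act h' X23 (ω ^ 2) := hhx.conj c
  have aYh : Act h Y (ω ^ 2)⁻¹ := by
    have := ((hhx.inv (pow_ne_zero _ hω0)).comp_neg).conj t
    have e : t * h⁻¹ * t⁻¹ = h := by
      calc t * h⁻¹ * t⁻¹ = (t * h * t⁻¹)⁻¹ := by simp [mul_assoc]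
        _ = h := by rw [hth, inv_inv]
    rwa [e] at this
  have aYd : Act d⁻¹ Y ω := by
    have := ((hh'x.inv (inv_ne_zero hω0)).comp_neg).conj t
    rw [inv_inv, show t * h'⁻¹ * t⁻¹ = d⁻¹ by rw [← hth']; group] at this
    exact this
  have aYh' : Act h' Y ω := by
    have := hd.comp_neg.conj t
    rwa [← hh't] at this
  have a32h : Act h X32 ω := by rw [← hcd]; exact aYd.conj c
  have a32h' : Act h' X32 (ω ^ 2)⁻¹ := aYh.conj c
  have aY13h' : Act h' (fun b => t * x b * t⁻¹) ω := by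
    have := hd.conj t
    rwa [← hh't] at this
  have aY13d : Act d⁻¹ (fun b => t * x b * t⁻¹) ω := by
    have := (hh'x.inv (inv_ne_zero hω0)).conj t
    rw [inv_inv, show t * h'⁻¹ * t⁻¹ = d⁻¹ by rw [← hth']; group] at this
    exact this
  have a13h : Act h X13 ω := by
    have := (aY13h'.conj c).conj c
    rw [show c * (c * h' * c⁻¹) * c⁻¹ = h by rw [hch', hcd]] at this
    exact this
  have a13h' : Act h' X13 ω := by
    have := (aY13d.conj c).conj c
    rw [hcd] at this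
    exact this
  -- the three basic relations
  have add13 : ∀ b b', X13 (b + b') = X13 b * X13 b' := fun b b' => by
    simp only [hX13, hadd]; group
  have add23 : ∀ b b', X23 (b + b') = X23 b * X23 b' := fun b b' => by
    simp only [hX23, hadd]; group
  have add32 : ∀ b b', X32 (b + b') = X32 b * X32 b' := fun b b' => by
    simp only [hX32, hY, neg_add, hadd]; group
  have z13 : X13 0 = 1 := by simp [hX13, hx0]
  have z23 : X23 0 = 1 := by simp [hX23, hx0]
  have z32 : X32 0 = 1 := by simp [hX32, hY, hx0]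
  set z := h * (h' * h') with hz
  have hzx : Act z x 1 := by
    have := hhx.mul (hh'x.mul hh'x)
    rwa [show ω ^ 2 * (ω⁻¹ * ω⁻¹) = 1 by field_simp] at this
  have hz13 : Act z X13 (ω ^ 3) := by
    have := a13h.mul (a13h'.mul a13h')
    rwa [show ω * (ω * ω) = ω ^ 3 by ring] at this
  have hz23 : Act z X23 (ω ^ 3) := by
    have := a23h.mul (a23h'.mul a23h')
    rwa [show ω⁻¹ * (ω ^ 2 * ω ^ 2) = ω ^ 3 by field_simp] at this
  have hz32 : Act z⁻¹ X32 (ω ^ 3) := by
    have h4 : Act z X32 (ω ^ 3)⁻¹ := by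
      have := a32h.mul (a32h'.mul a32h')
      rwa [show ω * ((ω ^ 2)⁻¹ * (ω ^ 2)⁻¹) = (ω ^ 3)⁻¹ by field_simp] at this
    have := h4.inv (inv_ne_zero (pow_ne_zero _ hω0))
    rwa [inv_inv] at this
  have commA : ∀ a b, Commute (x a) (X13 b) := by
    refine extend hω0 hω0 hω E hE (fun a b => Commute (x a) (X13 b)) (fun b => ?_) ?_ ?_ ?_ ?_ ?_
    · simp [hx0]
    · simp [z13]
    · intro b b' hb hb'; rw [add13]; exact hb.mul_right hb'
    · intro b hb
      have := (Commute.conj_iff z).2 hb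
      rwa [hzx, hz13, one_mul] at this
    · intro a b hab
      have := (Commute.conj_iff h').2 hab
      rwa [hh'x, a13h'] at this
    · intro b hb; rw [h1]; exact hA b hb
  have commB : ∀ a b, Commute (x a) (X32 b) := by
    refine extend hω0 (inv_ne_zero (pow_ne_zero 2 hω0)) hω E hE (fun a b => Commute (x a) (X32 b))
      (fun b => ?_) ?_ ?_ ?_ ?_ ?_
    · simp [hx0]
    · simp [z32]
    · intro b b' hb hb'; rw [add32]; exact hb.mul_right hb'
    · intro b hb
      have := (Commute.conj_iff z⁻¹).2 hb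
      rwa [hzx.inv one_ne_zero, hz32, inv_one, one_mul] at this
    · intro a b hab
      have := (Commute.conj_iff h').2 hab
      rwa [hh'x, a32h'] at this
    · intro b hb; rw [h1]; exact hB b hb
  -- rotation of families
  have rot3 : ∀ g : H, c * (c * (c * g * c⁻¹) * c⁻¹) * c⁻¹ = g := fun g => by
    calc c * (c * (c * g * c⁻¹) * c⁻¹) * c⁻¹ = (c * c * c) * g * (c * c * c)⁻¹ := by group
      _ = g := by rw [← sq, ← pow_succ, hc3]; group
  have comm2313 : ∀ a b, Commute (X23 a) (X13 b) := fun a b => by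
    have := (Commute.conj_iff c).2 (commB a (-b))
    simp only [hX23, hX32, hY, hX13, neg_neg] at this ⊢
    exact this
  have commC : ∀ a b, x a * X23 b * (x a)⁻¹ * (X23 b)⁻¹ = X13 (a * b) := by
    refine extend hω0 (pow_ne_zero 2 hω0) hω E hE
      (fun a b => x a * X23 b * (x a)⁻¹ * (X23 b)⁻¹ = X13 (a * b)) (fun b => ?_) ?_ ?_ ?_ ?_ ?_
    · simp [hx0, z13]
    · simp [z23, z13]
    · intro b b' hb hb'
      simp only [one_mul] at hb hb' ⊢
      rw [add23, add13]
      calc x 1 * (X23 b * X23 b') * (x 1)⁻¹ * (X23 b * X23 b')⁻¹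
          = (x 1 * X23 b * (x 1)⁻¹ * (X23 b)⁻¹) *
              (X23 b * (x 1 * X23 b' * (x 1)⁻¹ * (X23 b')⁻¹) * (X23 b)⁻¹) := by group
        _ = X13 b * X13 b' := by rw [hb, hb', (comm2313 b b').eq, mul_inv_cancel_right]
    · intro b hb
      simp only [one_mul] at hb ⊢
      calc x 1 * X23 (ω ^ 3 * b) * (x 1)⁻¹ * (X23 (ω ^ 3 * b))⁻¹
          = (z * x 1 * z⁻¹) * (z * X23 b * z⁻¹) * (z * x 1 * z⁻¹)⁻¹ * (z * X23 b * z⁻¹)⁻¹ := by
            rw [hzx, hz23, one_mul]
        _ = z * (x 1 * X23 b * (x 1)⁻¹ * (X23 b)⁻¹) * z⁻¹ := by group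
        _ = X13 (ω ^ 3 * b) := by rw [hb, hz13]
    · intro a b hab
      calc x (ω⁻¹ * a) * X23 (ω ^ 2 * b) * (x (ω⁻¹ * a))⁻¹ * (X23 (ω ^ 2 * b))⁻¹
          = (h' * x a * h'⁻¹) * (h' * X23 b * h'⁻¹) * (h' * x a * h'⁻¹)⁻¹ * (h' * X23 b * h'⁻¹)⁻¹ := by
            rw [hh'x, a23h']
        _ = h' * (x a * X23 b * (x a)⁻¹ * (X23 b)⁻¹) * h'⁻¹ := by group
        _ = X13 (ω⁻¹ * a * (ω ^ 2 * b)) := by
            rw [hab, a13h']; congr 1; field_simp
    · intro b hb
      simp only [one_mul]; rw [h1]; exact hC b hb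
  -- conjugation by `t` of the two long families
  have t23 : ∀ b, t * X23 b * t⁻¹ = X13 b := by
    intro b
    have e1 : c * c * t = t * c * (t ^ 2) := by
      calc c * c * t = c * (c * t) := by group
        _ = c * (t⁻¹ * c * c) := by rw [hct2]
        _ = t * (t⁻¹ * c) * t⁻¹ * c * c := by group
        _ = t * (c * t * c⁻¹) * t⁻¹ * c * c := by rw [hct1]
        _ = t * c * t * (c⁻¹ * t⁻¹) * c * c := by group
        _ = t * c * t * ((t * c)⁻¹ * c * c) := by group
        _ = t * c * (t ^ 2) := by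
            have : (t * c)⁻¹ * c * c = t := by
              calc (t * c)⁻¹ * c * c = c⁻¹ * (t⁻¹ * c * c) := by group
                _ = c⁻¹ * (c * t) := by rw [hct2]
                _ = t := by group
            rw [this, sq]; group
    calc t * (c * x b * c⁻¹) * t⁻¹ = (t * c) * (t ^ 2 * x b * (t ^ 2)⁻¹) * (t * c)⁻¹ := by rw [ht2x]; group
      _ = (c * c * t) * x b * (c * c * t)⁻¹ := by rw [e1]; group
      _ = _ := by simp only [hX13]; group
  have t13 : ∀ b, t * X13 b * t⁻¹ = X23 (-b) := by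
    intro b
    have e1 : Act (t ^ 2) X23 (ω⁻¹ ^ j) := by
      rw [ht2h]
      clear_value z
      clear hj ht2h
      induction j with
      | zero => intro v; simp
      | succ j ih => rw [pow_succ, pow_succ]; exact ih.mul a23h
    calc t * X13 b * t⁻¹ = t ^ 2 * X23 b * (t ^ 2)⁻¹ := by rw [← t23, sq]; group
      _ = X23 (-b) := by rw [e1, inv_pow, hj, inv_neg, inv_one, neg_one_mul]
  -- the six families
  set Y31 : K → H := fun b => c * (c * x (-b) * c⁻¹) * c⁻¹ with hY31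
  have r12 : ∀ b, c * x b * c⁻¹ = X23 b := fun b => rfl
  have r23 : ∀ b, c * X23 b * c⁻¹ = Y31 (-b) := fun b => by simp only [hX23, hY31, neg_neg]
  have r31 : ∀ b, c * Y31 b * c⁻¹ = x (-b) := fun b => rot3 _
  have r21 : ∀ b, c * Y b * c⁻¹ = X32 b := fun b => rfl
  have r32 : ∀ b, c * X32 b * c⁻¹ = X13 (-b) := fun b => rfl
  have r13 : ∀ b, c * X13 b * c⁻¹ = Y (-b) := fun b => by
    simp only [hX13, hY, neg_neg]; exact rot3 _
  -- commuting pairs
  have cA2 : ∀ a b, Commute (X23 a) (Y b) := fun a b => by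
    have := (Commute.conj_iff c).2 (commA a (-b))
    rwa [r12, r13, neg_neg] at this
  have cA3 : ∀ a b, Commute (Y31 a) (X32 b) := fun a b => by
    have := (Commute.conj_iff c).2 (cA2 (-a) b)
    rwa [r23, r21, neg_neg] at this
  have cB3 : ∀ a b, Commute (Y31 a) (Y b) := fun a b => by
    have := (Commute.conj_iff c).2 (comm2313 (-a) (-b))
    rwa [r23, r13, neg_neg, neg_neg] at this
  -- commutator pairs
  have conjComm : ∀ g p q : H, g * (p * q * p⁻¹ * q⁻¹) * g⁻¹ =
      (g * p * g⁻¹) * (g * q * g⁻¹) * (g * p * g⁻¹)⁻¹ * (g * q * g⁻¹)⁻¹ := fun g p q => by group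
  have pC2 : ∀ a b, X23 a * Y31 b * (X23 a)⁻¹ * (Y31 b)⁻¹ = Y (a * b) := fun a b => by
    have := congrArg (fun g => c * g * c⁻¹) (commC a (-b))
    simp only [conjComm, r12, r23, r13, mul_neg, neg_neg] at this
    exact this
  have pC3 : ∀ a b, Y31 a * x b * (Y31 a)⁻¹ * (x b)⁻¹ = X32 (a * b) := fun a b => by
    have := congrArg (fun g => c * g * c⁻¹) (pC2 (-a) (-b))
    simp only [conjComm, r23, r31, r21, neg_mul_neg, neg_neg] at this
    exact this
  have pT : ∀ a b, Y a * X13 b * (Y a)⁻¹ * (X13 b)⁻¹ = X23 (a * b) := fun a b => by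
    have := congrArg (fun g => t * g * t⁻¹) (commC (-a) b)
    simp only [conjComm, t23, t13, neg_mul, neg_neg] at this
    exact this
  have pT2 : ∀ a b, X32 a * Y b * (X32 a)⁻¹ * (Y b)⁻¹ = Y31 (a * b) := fun a b => by
    have := congrArg (fun g => c * g * c⁻¹) (pT a (-b))
    simp only [conjComm, r21, r13, r23, mul_neg, neg_neg] at this
    exact this
  have pT3 : ∀ a b, X13 a * X32 b * (X13 a)⁻¹ * (X32 b)⁻¹ = x (a * b) := fun a b => by
    have := congrArg (fun g => c * g * c⁻¹) (pT2 (-a) b)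
    simp only [conjComm, r32, r21, r31, neg_mul, neg_neg] at this
    exact this
  have addY : ∀ b b', Y (b + b') = Y b * Y b' := fun b b' => by
    simp only [hY, neg_add, hadd]; group
  have add31 : ∀ b b', Y31 (b + b') = Y31 b * Y31 b' := fun b b' => by
    simp only [hY31, neg_add, hadd]; group
  have cself : ∀ (Z : K → H), (∀ b b', Z (b + b') = Z b * Z b') → ∀ a b, Commute (Z a) (Z b) :=
    fun Z hZ a b => by show _ = _; rw [← hZ, ← hZ, add_comm]
  have e01 : three x t c 0 1 = x := rfl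
  have e10 : three x t c 1 0 = Y := rfl
  have e12 : three x t c 1 2 = X23 := rfl
  have e20 : three x t c 2 0 = Y31 := rfl
  have e21 : three x t c 2 1 = X32 := rfl
  have e02 : three x t c 0 2 = X13 := rfl
  refine { add := ?_, comm := ?_, prod := ?_ }
  · intro i k hik a b
    fin_cases i <;> fin_cases k <;> first
      | exact absurd rfl hik
      | exact hadd a b
      | exact addY a b
      | exact add23 a b
      | exact add31 a b
      | exact add32 a b
      | exact add13 a b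
  · intro i k l m hik hlm him hkl a b
    fin_cases i <;> fin_cases k <;> fin_cases l <;> fin_cases m <;> first
      | exact absurd rfl hik
      | exact absurd rfl hlm
      | exact absurd rfl him
      | exact absurd rfl hkl
      | exact (cself x hadd a b).eq
      | exact (cself Y addY a b).eq
      | exact (cself X23 add23 a b).eq
      | exact (cself Y31 add31 a b).eq
      | exact (cself X32 add32 a b).eq
      | exact (cself X13 add13 a b).eq
      | exact (commA a b).eq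
      | exact (commA b a).symm.eq
      | exact (commB a b).eq
      | exact (commB b a).symm.eq
      | exact (comm2313 a b).eq
      | exact (comm2313 b a).symm.eq
      | exact (cA2 a b).eq
      | exact (cA2 b a).symm.eq
      | exact (cA3 a b).eq
      | exact (cA3 b a).symm.eq
      | exact (cB3 a b).eq
      | exact (cB3 b a).symm.eq
  · intro i k l hik hkl hil a b
    fin_cases i <;> fin_cases k <;> fin_cases l <;> first
      | exact absurd rfl hik
      | exact absurd rfl hkl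
      | exact absurd rfl hil
      | exact commC a b
      | exact pC2 a b
      | exact pC3 a b
      | exact pT a b
      | exact pT2 a b
      | exact pT3 a b

end CfsgLib.Lie.ShortPres
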