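import Cfsg.Agent.Lib.Lie.ShortPres.Torus

/-!
# A short presentation of `SL(3, F)`
-/

set_option autoImplicit false

namespace CfsgLib.Lie.ShortPres

open Polynomial Matrix CfsgLib.Lie.SL2Rel CfsgLib.Char.SingleBond

/-- the word of a polynomial along a parametrisation -/
theorem pw_eq_of_param {K : Type*} [Field K] {p : ℕ} [hp : Fact p.Prime] [Algebra (ZMod p) K] {H : Type*}
    [Group H] (x : K → H) (hadd : ∀ b c, x (b + c) = x b * x c) (a : H) (α : K)
    (ha : Act a x α) (f : (ZMod p)[X]) : pw (x 1) a f = x (aeval α f) := by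
  have hx0 : x 0 = 1 := by
    have := hadd 0 0
    rwa [add_zero, left_eq_mul] at this
  have hc : ∀ i, conjPow (x 1) a i = x (α ^ i) := by
    intro i
    induction i with
    | zero => simp [conjPow]
    | succ i ih => rw [add_comm, conjPow_add, pow_one, ih, ha, add_comm, pow_succ']
  have hpow : ∀ (b : K) (n : ℕ), x b ^ n = x ((n : K) * b) := by
    intro b n
    induction n with
    | zero => rw [pow_zero, Nat.cast_zero, zero_mul, hx0]
    | succ n ih => rw [pow_succ, ih, ← hadd]; congr 1; push_cast; ring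
  rw [pw, aeval_eq_sum_range]
  induction (f.natDegree + 1) with
  | zero => simp [hx0]
  | succ n ih =>
    rw [List.range_succ, List.map_append, List.prod_append, ih, List.map_singleton, List.prod_singleton,
      Finset.sum_range_succ, hadd, hc, hpow]
    congr 2
    rw [Algebra.smul_def]
    congr 1
    conv_rhs => rw [← ZMod.natCast_zmod_val (f.coeff n), map_natCast]

/-- the cube of a primitive element generates unless `q = 4` -/
theorem cube_not_fixed {F : Type*} [Field F] [Fintype F] {p : ℕ} [hp : Fact p.Prime] {n : ℕ}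
    (hn : Fintype.card F = p ^ n) (h4 : Fintype.card F ≠ 4) {ω : F} (hω0 : ω ≠ 0)
    (hω : orderOf ω = Fintype.card F - 1) (d : ℕ) (hd : 1 ≤ d) (hd2 : 2 * d ≤ n) :
    (ω ^ 3) ^ p ^ d ≠ ω ^ 3 := by
  intro h
  rw [← pow_mul] at h
  have hle : 3 ≤ 3 * p ^ d := Nat.le_mul_of_pos_right 3 (pow_pos hp.out.pos d)
  have h1 : ω ^ (3 * p ^ d - 3) = 1 := by
    have : ω ^ (3 * p ^ d - 3) * ω ^ 3 = 1 * ω ^ 3 := by
      rw [← pow_add, Nat.sub_add_cancel hle, h, one_mul]
    exact mul_right_cancel₀ (pow_ne_zero _ hω0) this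
  have h2 := orderOf_dvd_of_pow_eq_one h1
  rw [hω, hn] at h2
  rw [hn] at h4
  have h3 : 2 ≤ p ^ d := le_trans hp.out.two_le (Nat.le_self_pow (by omega) p)
  have hle' := Nat.le_of_dvd (by omega) h2
  have h5 : p ^ (2 * d) ≤ p ^ n := Nat.pow_le_pow_right hp.out.pos hd2
  rw [two_mul, pow_add] at h5
  rcases Nat.lt_or_ge (p ^ d) 3 with h6 | h6
  · have h7 : p ^ d = 2 := by omega
    have hp2 : p = 2 := by
      have := hp.out.two_le
      have := Nat.le_self_pow (by omega : d ≠ 0) p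
      omega
    have hd1 : d = 1 := by
      rw [hp2] at h7
      exact Nat.pow_right_injective le_rfl (show 2 ^ d = 2 ^ 1 by rw [h7, pow_one])
    subst hd1
    rw [h7] at hle' h5
    have : p ^ n = 4 := by omega
    exact h4 this
  · have := Nat.mul_le_mul_left (p ^ d) h6
    omega

section Three

variable {F : Type*} [Field F]

/-- the rotation matrix -/
def gc : Matrix.SpecialLinearGroup (Fin 3) F :=
  ⟨!![0, 0, 1; -1, 0, 0; 0, -1, 0], by simp [Matrix.det_fin_three]⟩

/-- the torus matrix -/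
def gd (ω : F) (hω : ω ≠ 0) : Matrix.SpecialLinearGroup (Fin 3) F :=
  ⟨!![ω, 0, 0; 0, 1, 0; 0, 0, ω⁻¹], by simp [Matrix.det_fin_three, hω]⟩

/-- the Weyl matrix -/
def gt : Matrix.SpecialLinearGroup (Fin 3) F := slX 0 1 1 * slX 1 0 (-1) * slX 0 1 1

theorem slX_val {i j : Fin 3} (h : i ≠ j) (b : F) :
    (slX i j b : Matrix.SpecialLinearGroup (Fin 3) F).1 = 1 + Matrix.single i j b := coe_slX h b

theorem val_mul3 (A B : Matrix.SpecialLinearGroup (Fin 3) F) : (A * B).1 = A.1 * B.1 := rfl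

theorem val_gt : (gt : Matrix.SpecialLinearGroup (Fin 3) F).1 = !![0, 1, 0; -1, 0, 0; 0, 0, 1] := by
  simp only [gt, val_mul3, slX_val (show (0 : Fin 3) ≠ 1 by decide), slX_val (show (1 : Fin 3) ≠ 0 by decide)]
  ext i j
  fin_cases i <;> fin_cases j <;>
    simp [Matrix.mul_apply, Fin.sum_univ_three, Matrix.single, Matrix.one_apply]

theorem conj_ext {g A B : Matrix.SpecialLinearGroup (Fin 3) F} (h : g.1 * A.1 = B.1 * g.1) :
    g * A * g⁻¹ = B := by
  rw [mul_inv_eq_iff_eq_mul]; exact Subtype.ext h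

theorem gc_x (b : F) : gc * slX 0 1 b * gc⁻¹ = slX 1 2 b := by
  apply conj_ext
  rw [slX_val (by decide), slX_val (by decide)]
  ext i j
  fin_cases i <;> fin_cases j <;>
    simp [gc, Matrix.mul_apply, Fin.sum_univ_three, Matrix.single, Matrix.one_apply]

theorem gc_x23 (b : F) : gc * slX 1 2 b * gc⁻¹ = slX 2 0 (-b) := by
  apply conj_ext
  rw [slX_val (by decide), slX_val (by decide)]
  ext i j
  fin_cases i <;> fin_cases j <;>
    simp [gc, Matrix.mul_apply, Fin.sum_univ_three, Matrix.single, Matrix.one_apply]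

theorem gc_y (b : F) : gc * slX 1 0 b * gc⁻¹ = slX 2 1 b := by
  apply conj_ext
  rw [slX_val (by decide), slX_val (by decide)]
  ext i j
  fin_cases i <;> fin_cases j <;>
    simp [gc, Matrix.mul_apply, Fin.sum_univ_three, Matrix.single, Matrix.one_apply]

theorem gc_x32 (b : F) : gc * slX 2 1 b * gc⁻¹ = slX 0 2 (-b) := by
  apply conj_ext
  rw [slX_val (by decide), slX_val (by decide)]
  ext i j
  fin_cases i <;> fin_cases j <;>
    simp [gc, Matrix.mul_apply, Fin.sum_univ_three, Matrix.single, Matrix.one_apply]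

theorem gt_x (b : F) : gt * slX 0 1 b * gt⁻¹ = slX 1 0 (-b) := by
  apply conj_ext
  rw [slX_val (by decide), slX_val (by decide), val_gt]
  ext i j
  fin_cases i <;> fin_cases j <;>
    simp [Matrix.mul_apply, Fin.sum_univ_three, Matrix.single, Matrix.one_apply]

theorem three_slX (i j : Fin 3) (h : i ≠ j) (b : F) :
    three (fun b => slX 0 1 b) gt (gc : Matrix.SpecialLinearGroup (Fin 3) F) i j b = slX i j b := by
  fin_cases i <;> fin_cases j <;> first
    | exact absurd rfl h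
    | simp [three, gt_x, gc_x, gc_x23, gc_y, gc_x32]

theorem map_three {K G H : Type*} [Field K] [Group G] [Group H] (φ : G →* H) (x : K → G) (t c : G)
    (i j : Fin 3) (b : K) : φ (three x t c i j b) = three (fun b => φ (x b)) (φ t) (φ c) i j b := by
  fin_cases i <;> fin_cases j <;> simp [three]

theorem gd_x {ω : F} (hω : ω ≠ 0) : Act (gd ω hω) (fun b => slX 0 1 b) ω := fun b => by
  apply conj_ext
  rw [slX_val (by decide), slX_val (by decide)]
  ext i j
  fin_cases i <;> fin_cases j <;>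
    simp [gd, Matrix.mul_apply, Fin.sum_univ_three, Matrix.single, Matrix.one_apply, mul_comm]

theorem val_gd' {ω : F} (hω : ω ≠ 0) :
    ((gt : Matrix.SpecialLinearGroup (Fin 3) F)⁻¹ * gd ω hω * gt).1 = !![1, 0, 0; 0, ω, 0; 0, 0, ω⁻¹] := by
  set E : Matrix.SpecialLinearGroup (Fin 3) F :=
    ⟨!![1, 0, 0; 0, ω, 0; 0, 0, ω⁻¹], by simp [Matrix.det_fin_three, hω]⟩ with hE
  have h : gd ω hω * gt = gt * E := by
    apply Subtype.ext
    rw [val_mul3, val_mul3, val_gt]
    ext i j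
    fin_cases i <;> fin_cases j <;> simp [gd, hE, Matrix.mul_apply, Fin.sum_univ_three]
  have e : (gt : Matrix.SpecialLinearGroup (Fin 3) F)⁻¹ * gd ω hω * gt = E := by
    rw [mul_assoc, h, inv_mul_cancel_left]
  rw [e]

theorem gd'_x {ω : F} (hω : ω ≠ 0) :
    Act ((gt : Matrix.SpecialLinearGroup (Fin 3) F)⁻¹ * gd ω hω * gt) (fun b => slX 0 1 b) ω⁻¹ := fun b => by
  apply conj_ext
  rw [slX_val (by decide), slX_val (by decide), val_gd' hω]
  ext i j
  fin_cases i <;> fin_cases j <;>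
    simp [Matrix.mul_apply, Fin.sum_univ_three, Matrix.single, Matrix.one_apply, hω, mul_right_comm]

theorem gd_comm {ω : F} (hω : ω ≠ 0) :
    Commute (gd ω hω) ((gt : Matrix.SpecialLinearGroup (Fin 3) F)⁻¹ * gd ω hω * gt) := by
  apply Subtype.ext
  rw [val_mul3 (gd ω hω), val_mul3 _ (gd ω hω), val_gd' hω]
  ext i j
  fin_cases i <;> fin_cases j <;> simp [gd, Matrix.mul_apply, Fin.sum_univ_three]

theorem gc_cube : (gc : Matrix.SpecialLinearGroup (Fin 3) F) ^ 3 = 1 := by
  apply Subtype.ext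
  rw [pow_succ, sq, val_mul3, val_mul3]
  ext i j
  fin_cases i <;> fin_cases j <;> simp [gc, Matrix.mul_apply, Fin.sum_univ_three]

theorem gc_braid : (gc : Matrix.SpecialLinearGroup (Fin 3) F) = gt * gc * gt * gc⁻¹ := by
  rw [eq_mul_inv_iff_mul_eq]
  apply Subtype.ext
  simp only [val_mul3, val_gt]
  ext i j
  fin_cases i <;> fin_cases j <;> simp [gc, Matrix.mul_apply, Fin.sum_univ_three]

theorem gd_prod {ω : F} (hω : ω ≠ 0) :
    gd ω hω = gd ω hω * gt * (gd ω hω)⁻¹ * gt⁻¹ *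
      ((gc : Matrix.SpecialLinearGroup (Fin 3) F) * (gd ω hω * gt * (gd ω hω)⁻¹ * gt⁻¹) * gc⁻¹) := by
  set E : Matrix.SpecialLinearGroup (Fin 3) F :=
    ⟨!![ω, 0, 0; 0, ω⁻¹, 0; 0, 0, 1], by simp [Matrix.det_fin_three, hω]⟩ with hE
  have h : gd ω hω * gt = E * gt * gd ω hω := by
    apply Subtype.ext
    simp only [val_mul3, val_gt]
    ext i j
    fin_cases i <;> fin_cases j <;> simp [gd, hE, Matrix.mul_apply, Fin.sum_univ_three, hω]
  have e : gd ω hω * gt * (gd ω hω)⁻¹ * (gt : Matrix.SpecialLinearGroup (Fin 3) F)⁻¹ = E := by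
    rw [h, mul_inv_cancel_right, mul_inv_cancel_right]
  have h2 : gd ω hω * gc = E * (gc * E) := by
    apply Subtype.ext
    simp only [val_mul3]
    ext i j
    fin_cases i <;> fin_cases j <;> simp [gd, gc, hE, Matrix.mul_apply, Fin.sum_univ_three, hω]
  rw [e, ← mul_assoc E, ← h2, mul_inv_cancel_right]

/-- the four matrices -/
def gens3 (ω : F) (hω : ω ≠ 0) : Fin 4 → Matrix.SpecialLinearGroup (Fin 3) F :=
  ![slX 0 1 1, gt, gc, gd ω hω]

end Three

section Words

variable {p : ℕ} {G : Type*} [Group G]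

/-- `[u, X13(1)]`, `[u, X32(b)]`, and the commutator relation, written for a word `w = x b` -/
def wordA (u t c w : G) : G := u * (c * (c * (t * w * t⁻¹) * c⁻¹) * c⁻¹) * u⁻¹ *
  (c * (c * (t * w * t⁻¹) * c⁻¹) * c⁻¹)⁻¹

/-- see `wordA` -/
def wordB (u t c w : G) : G := u * (c * (t * w⁻¹ * t⁻¹) * c⁻¹) * u⁻¹ * (c * (t * w⁻¹ * t⁻¹) * c⁻¹)⁻¹

/-- see `wordA` -/
def wordC (u t c w : G) : G :=
  u * (c * w * c⁻¹) * u⁻¹ * (c * w * c⁻¹)⁻¹ * (c * (c * (t * w * t⁻¹) * c⁻¹) * c⁻¹)⁻¹

theorem map_words {H : Type*} [Group H] (φ : G →* H) (u t c w : G) :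
    φ (wordA u t c w) = wordA (φ u) (φ t) (φ c) (φ w) ∧
    φ (wordB u t c w) = wordB (φ u) (φ t) (φ c) (φ w) ∧
    φ (wordC u t c w) = wordC (φ u) (φ t) (φ c) (φ w) := by
  refine ⟨?_, ?_, ?_⟩ <;> simp [wordA, wordB, wordC]

theorem words_slX {F : Type*} [Field F] (b : F) :
    wordA (slX 0 1 1) gt (gc : Matrix.SpecialLinearGroup (Fin 3) F) (slX 0 1 b) = 1 ∧
    wordB (slX 0 1 1) gt (gc : Matrix.SpecialLinearGroup (Fin 3) F) (slX 0 1 b) = 1 ∧
    wordC (slX 0 1 1) gt (gc : Matrix.SpecialLinearGroup (Fin 3) F) (slX 0 1 b) = 1 := by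
  have h01 : (0 : Fin 3) ≠ 1 := by decide
  have hneg : (slX 0 1 b : Matrix.SpecialLinearGroup (Fin 3) F)⁻¹ = slX 0 1 (-b) := by
    refine inv_eq_of_mul_eq_one_right ?_
    rw [← stRel_slX.add h01, add_neg_cancel]
    apply Subtype.ext
    rw [slX_val h01]
    simp
  refine ⟨?_, ?_, ?_⟩
  · simp only [wordA, gt_x, gc_y, gc_x32, neg_neg]
    rw [mul_inv_eq_one, mul_inv_eq_iff_eq_mul]
    exact stRel_slX.comm h01 (by decide) (by decide) (by decide) _ _
  · simp only [wordB, hneg, gt_x, gc_y, neg_neg]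
    rw [mul_inv_eq_one, mul_inv_eq_iff_eq_mul]
    exact stRel_slX.comm h01 (by decide) (by decide) (by decide) _ _
  · simp only [wordC, gt_x, gc_x, gc_y, gc_x32, neg_neg]
    rw [mul_inv_eq_one]
    have := stRel_slX.prod (F := F) h01 (show (1 : Fin 3) ≠ 2 by decide) (show (0 : Fin 3) ≠ 2 by decide) 1 b
    rwa [one_mul] at this

end Words

section Iso

variable {F : Type*} [Field F] [Fintype F] {p : ℕ} [hp : Fact p.Prime] [Algebra (ZMod p) F]

theorem nonempty_equiv3 (rels : Set (FreeGroup (Fin 4))) (ω : F) (hω0 : ω ≠ 0)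
    (hω : ∀ s : F, s ≠ 0 → ∃ n : ℕ, ω ^ n = s)
    (hgen : ∀ β : F, ∃ f : (ZMod p)[X], aeval ω f = β)
    (hval : ∀ r ∈ rels, FreeGroup.lift (gens3 ω hω0) r = 1)
    (u t c d : PresentedGroup rels) (hu : u = PresentedGroup.of 0) (ht : t = PresentedGroup.of 1)
    (hc : c = PresentedGroup.of 2) (hd : d = PresentedGroup.of 3)
    (e1 : u ^ p = 1) (hcm : ∀ i j, Commute (conjPow u d i) (conjPow u d j))
    (e4 : pw u d (minpoly (ZMod p) ω) = 1) (gi : (ZMod p)[X]) (hgi : aeval ω gi = ω⁻¹)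
    (e6 : t⁻¹ * d * t * u * (t⁻¹ * d * t)⁻¹ = pw u d gi)
    (htu : t = u * (t * u * t⁻¹) * u)
    (hcomm : Commute d (t⁻¹ * d * t)) (hc3 : c ^ 3 = 1) (hct : c = t * c * t * c⁻¹)
    (hdd : d = d * t * d⁻¹ * t⁻¹ * (c * (d * t * d⁻¹ * t⁻¹) * c⁻¹))
    (E : Set F) (hE : ∀ S : F → Prop, S 0 → (∀ b c, S b → S c → S (b + c)) → (∀ b, S b → S (ω ^ 3 * b)) →
      (∀ b ∈ E, S b) → ∀ b, S b)
    (hw : ∀ b ∈ E, ∃ f : (ZMod p)[X], aeval ω f = b ∧ wordA u t c (pw u d f) = 1 ∧
      wordB u t c (pw u d f) = 1 ∧ wordC u t c (pw u d f) = 1) :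
    Nonempty (PresentedGroup rels ≃* Matrix.SpecialLinearGroup (Fin 3) F) := by
  obtain ⟨x, hxadd, hx1, hxa, hxpw⟩ := exists_param e1 hcm ω hgen e4
  have hda : Act d x ω := fun b => (hxa b).symm
  have hd' : Act (t⁻¹ * d * t) x ω⁻¹ := fun b =>
    (param_equivariant (p := p) hcomm x hxadd ω ω⁻¹ hgen hxa (by rw [hx1, e6, hxpw, hgi]) b).symm
  have hneg : ∀ b, x (-b) = (x b)⁻¹ := fun b => by
    have hx0 : x 0 = 1 := by
      have := hxadd 0 0
      rwa [add_zero, left_eq_mul] at this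
    exact eq_inv_of_mul_eq_one_left (by rw [← hxadd, neg_add_cancel, hx0])
  have hR := three_stRel u t c d ω hω0 hω x hxadd hx1 hda hd' htu hcomm hc3 hct hdd E hE
    (fun b hb => by
      obtain ⟨f, hf, hA, -, -⟩ := hw b hb
      rw [hxpw, hf, wordA, mul_inv_eq_one, mul_inv_eq_iff_eq_mul] at hA
      exact hA)
    (fun b hb => by
      obtain ⟨f, hf, -, hB, -⟩ := hw b hb
      rw [hxpw, hf, wordB, mul_inv_eq_one, mul_inv_eq_iff_eq_mul, ← hneg] at hB
      exact hB)
    (fun b hb => by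
      obtain ⟨f, hf, -, -, hC⟩ := hw b hb
      rw [hxpw, hf, wordC] at hC
      exact mul_inv_eq_one.1 hC)
  obtain ⟨φ, hφ⟩ := hR.exists_hom (le_refl 3)
  have hφX : ∀ i j (h : i ≠ j) b, φ (slX i j b) = three x t c i j b := fun i j h b => by
    rw [slX_eq h]; exact hφ i j h b
  have hx01 : ∀ b, φ (slX 0 1 b) = x b := fun b => hφX 0 1 (by decide) b
  -- the images of the four matrices
  have hy : φ (slX 1 0 (-1)) = t * u * t⁻¹ := by
    rw [hφX 1 0 (by decide)]
    show t * x (- -1) * t⁻¹ = _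
    rw [neg_neg, hx1]
  have hφt : φ gt = t := by
    rw [gt, map_mul, map_mul, hx01, hx1, hy]; exact htu.symm
  have hφc : φ gc = c := by
    have ew : (gt : Matrix.SpecialLinearGroup (Fin 3) F) * (slX 1 2 1 * slX 2 1 (-1) * slX 1 2 1) = gc := by
      apply Subtype.ext
      rw [val_mul3, val_gt, val_mul3, val_mul3, slX_val (by decide), slX_val (by decide)]
      ext i j
      fin_cases i <;> fin_cases j <;>
        simp [gc, Matrix.mul_apply, Fin.sum_univ_three, Matrix.single, Matrix.one_apply]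
    rw [← ew, map_mul, hφt, map_mul, map_mul, hφX 1 2 (by decide), hφX 2 1 (by decide)]
    show t * (c * x 1 * c⁻¹ * (c * (t * x (- -1) * t⁻¹) * c⁻¹) * (c * x 1 * c⁻¹)) = c
    rw [neg_neg, hx1]
    calc t * (c * u * c⁻¹ * (c * (t * u * t⁻¹) * c⁻¹) * (c * u * c⁻¹))
        = t * (c * (u * (t * u * t⁻¹) * u) * c⁻¹) := by group
      _ = c := by rw [← htu]; conv_rhs => rw [hct]
                  group
  have hφd : φ (gd ω hω0) = d := by
    have eh : (gd ω hω0 * gt * (gd ω hω0)⁻¹ * gt⁻¹ : Matrix.SpecialLinearGroup (Fin 3) F) =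
        slX 0 1 ω * slX 1 0 (-ω⁻¹) * slX 0 1 ω * gt⁻¹ := by
      rw [mul_left_inj, mul_inv_eq_iff_eq_mul]
      apply Subtype.ext
      simp only [val_mul3, val_gt, slX_val (show (0 : Fin 3) ≠ 1 by decide),
        slX_val (show (1 : Fin 3) ≠ 0 by decide)]
      ext i j
      fin_cases i <;> fin_cases j <;>
        simp [gd, Matrix.mul_apply, Fin.sum_univ_three, Matrix.single, Matrix.one_apply, hω0]
    have e2 : φ (gd ω hω0 * gt * (gd ω hω0)⁻¹ * gt⁻¹) = d * t * d⁻¹ * t⁻¹ := by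
      rw [eh, map_mul, map_mul, map_mul, map_inv, hx01, hφX 1 0 (by decide), hφt]
      show x ω * (t * x (- -ω⁻¹) * t⁻¹) * x ω * t⁻¹ = _
      rw [neg_neg]
      congr 1
      have hy2 : d * (t * u * t⁻¹) * d⁻¹ = t * x ω⁻¹ * t⁻¹ := by
        have := hd' 1
        rw [mul_one, hx1] at this
        rw [← this]; group
      have hxw : d * u * d⁻¹ = x ω := by rw [← hx1, hda, mul_one]
      rw [← hxw, ← hy2]
      conv_rhs => rw [htu]
      group
    rw [gd_prod hω0, map_mul, e2, map_mul, map_mul, map_inv, hφc, e2]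
    exact hdd.symm
  let ψ : PresentedGroup rels →* Matrix.SpecialLinearGroup (Fin 3) F := PresentedGroup.toGroup hval
  have hψu : ψ u = slX 0 1 1 := by rw [hu]; exact PresentedGroup.toGroup.of _
  have hψt : ψ t = gt := by rw [ht]; exact PresentedGroup.toGroup.of _
  have hψc : ψ c = gc := by rw [hc]; exact PresentedGroup.toGroup.of _
  have hψd : ψ d = gd ω hω0 := by rw [hd]; exact PresentedGroup.toGroup.of _
  have hψx : ∀ b, ψ (x b) = slX 0 1 b := by
    intro b
    obtain ⟨f, rfl⟩ := hgen b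
    rw [← hxpw, map_pw, hψu, hψd]
    exact pw_eq_of_param (fun b => slX 0 1 b) (stRel_slX.add (by decide)) _ ω (gd_x hω0) f
  refine ⟨MonoidHom.toMulEquiv ψ φ ?_ ?_⟩
  · apply PresentedGroup.ext
    intro i
    simp only [MonoidHom.comp_apply, MonoidHom.id_apply]
    fin_cases i
    · show φ (ψ (PresentedGroup.of 0)) = PresentedGroup.of 0
      rw [← hu, hψu, hx01, hx1]
    · show φ (ψ (PresentedGroup.of 1)) = PresentedGroup.of 1
      rw [← ht, hψt, hφt]
    · show φ (ψ (PresentedGroup.of 2)) = PresentedGroup.of 2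
      rw [← hc, hψc, hφc]
    · show φ (ψ (PresentedGroup.of 3)) = PresentedGroup.of 3
      rw [← hd, hψd, hφd]
  · refine sl_hom_ext fun i j hij b => ?_
    simp only [MonoidHom.comp_apply, MonoidHom.id_apply]
    rw [hφ i j hij b, map_three, hψt, hψc, ← slX_eq hij, ← three_slX i j hij b]
    simp [hψx]

end Iso

theorem card_thirteen {α : Type*} [DecidableEq α] (a b c d e f g h i j k l m : α) :
    ({a, b, c, d, e, f, g, h, i, j, k, l, m} : Finset α).card ≤ 14 := by
  refine le_trans (Finset.card_insert_le _ _) ?_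
  refine le_trans (Nat.succ_le_succ (Finset.card_insert_le _ _)) ?_
  refine le_trans (Nat.succ_le_succ (Nat.succ_le_succ (Finset.card_insert_le _ _))) ?_
  refine le_trans (Nat.succ_le_succ (Nat.succ_le_succ (Nat.succ_le_succ (Finset.card_insert_le _ _)))) ?_
  refine le_trans (Nat.succ_le_succ (Nat.succ_le_succ (Nat.succ_le_succ (Nat.succ_le_succ
    (Finset.card_insert_le _ _))))) ?_
  have := Finset.card_le_five (a := f) (b := g) (c := h) (d := i) (e := j)
  refine le_trans (Nat.succ_le_succ (Nat.succ_le_succ (Nat.succ_le_succ (Nat.succ_le_succ (Nat.succ_le_succ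
    (Finset.card_le_card (t := {f, g, h, i, j} ∪ {k, l, m}) (fun z hz => by
      simp only [Finset.mem_insert, Finset.mem_singleton, Finset.mem_union] at hz ⊢; tauto))))))) ?_
  have h2 := Finset.card_union_le ({f, g, h, i, j} : Finset α) {k, l, m}
  have h3 := Finset.card_le_three (a := k) (b := l) (c := m)
  omega

theorem card_fourteen {α : Type*} [DecidableEq α] (a b c d e f g h i j k l m n : α) :
    ({a, b, c, d, e, f, g, h, i, j, k, l, m, n} : Finset α).card ≤ 14 := by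
  have h1 := Finset.card_le_card (s := ({a, b, c, d, e, f, g, h, i, j, k, l, m, n} : Finset α))
    (t := {a, b, c, d, e} ∪ {f, g, h, i, j} ∪ {k, l, m, n}) (fun z hz => by
      simp only [Finset.mem_insert, Finset.mem_singleton, Finset.mem_union] at hz ⊢; tauto)
  have h2 := Finset.card_union_le ({a, b, c, d, e} ∪ {f, g, h, i, j} : Finset α) {k, l, m, n}
  have h3 := Finset.card_union_le ({a, b, c, d, e} : Finset α) {f, g, h, i, j}
  have h4 := Finset.card_le_five (a := a) (b := b) (c := c) (d := d) (e := e)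
  have h5 := Finset.card_le_five (a := f) (b := g) (c := h) (d := i) (e := j)
  have h6 := Finset.card_le_four (a := k) (b := l) (c := m) (d := n)
  omega

end CfsgLib.Lie.ShortPres
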