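import Mathlib

/-!
# Cyclic modules inside a group

If `u` and all its conjugates by powers of `a` commute, have order dividing `p`, and the word of the
minimal polynomial of `α` vanishes, the additive group of the field `(ZMod p)[α]` maps onto these
conjugates. Also: the commuting follows from two relations (Campbell–Robertson–Williams).
-/

set_option autoImplicit false

namespace CfsgLib.Lie.ShortPres

open Polynomial

/-- `conjPow u a i = a^i u a^(-i)` -/
def conjPow {G : Type*} [Group G] (u a : G) (i : ℕ) : G := a ^ i * u * (a ^ i)⁻¹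

theorem conjPow_zero {G : Type*} [Group G] (u a : G) : conjPow u a 0 = u := by simp [conjPow]

theorem conjPow_add {G : Type*} [Group G] (u a : G) (i j : ℕ) :
    conjPow u a (i + j) = a ^ i * conjPow u a j * (a ^ i)⁻¹ := by
  simp only [conjPow, pow_add]; group

/-- the word of a polynomial in the conjugates of `u` by powers of `a` -/
noncomputable def pw {G : Type*} [Group G] {p : ℕ} (u a : G) (f : (ZMod p)[X]) : G :=
  ((List.range (f.natDegree + 1)).map fun i => conjPow u a i ^ (f.coeff i).val).prod

theorem map_pw {G H : Type*} [Group G] [Group H] {p : ℕ} (φ : G →* H) (u a : G) (f : (ZMod p)[X]) :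
    φ (pw u a f) = pw (φ u) (φ a) f := by
  simp [pw, conjPow, map_list_prod, List.map_map, Function.comp_def, map_mul, map_pow, map_inv]

/-- the two relations `[u, u^a] = 1`, `u^b = u u^a` with commuting `a, b` make all conjugates of `u` by
powers of `a` commute -/
theorem commute_conjPow {H : Type*} [Group H] {u a b : H} (hab : Commute a b)
    (h1 : Commute u (conjPow u a 1)) (hb : b * u * b⁻¹ = u * conjPow u a 1) (i j : ℕ) :
    Commute (conjPow u a i) (conjPow u a j) := by
  have hu : ∀ n, Commute u (conjPow u a n) := by
    intro n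
    induction n using Nat.strong_induction_on with
    | _ n ih =>
      rcases n with _ | _ | m
      · rw [conjPow_zero]
      · exact h1
      · have hm : Commute u (conjPow u a (m + 1)) := ih (m + 1) (by omega)
        have hs : ∀ k, Commute u (conjPow u a k) → Commute (conjPow u a 1) (conjPow u a (1 + k)) := by
          intro k hk
          rw [conjPow_add u a 1 k, show conjPow u a 1 = a ^ 1 * u * (a ^ 1)⁻¹ from rfl]
          exact (Commute.conj_iff (a ^ 1)).2 hk
        have hs1 : Commute (conjPow u a 1) (conjPow u a (m + 1)) := by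
          rw [add_comm m 1]; exact hs m (ih m (by omega))
        have hs2 : Commute (conjPow u a 1) (conjPow u a (m + 2)) := by
          rw [show m + 2 = 1 + (m + 1) by omega]; exact hs (m + 1) hm
        have hb2 : b * conjPow u a (m + 1) * b⁻¹ = conjPow u a (m + 1) * conjPow u a (m + 2) := by
          have hc : b * a ^ (m + 1) = a ^ (m + 1) * b := ((hab.pow_left (m + 1)).eq).symm
          calc b * conjPow u a (m + 1) * b⁻¹
              = (b * a ^ (m + 1)) * u * (b * a ^ (m + 1))⁻¹ := by simp only [conjPow]; group
            _ = a ^ (m + 1) * (b * u * b⁻¹) * (a ^ (m + 1))⁻¹ := by rw [hc]; group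
            _ = conjPow u a (m + 1) * conjPow u a (m + 2) := by
              rw [hb, show m + 2 = (m + 1) + 1 by omega, conjPow_add u a (m + 1) 1]
              simp only [conjPow]
              group
        have e : Commute (u * conjPow u a 1) (conjPow u a (m + 1) * conjPow u a (m + 2)) := by
          rw [← hb, ← hb2]
          exact (Commute.conj_iff b).2 hm
        set s := conjPow u a 1
        set t := conjPow u a (m + 1)
        set r := conjPow u a (m + 2)
        have h3 : t * (u * r) * s = t * (r * u) * s := by
          calc t * (u * r) * s = (t * u) * (r * s) := by group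
            _ = (u * t) * (s * r) := by rw [hm.eq, hs2.eq]
            _ = u * (t * s) * r := by group
            _ = u * (s * t) * r := by rw [hs1.eq]
            _ = (u * s) * (t * r) := by group
            _ = (t * r) * (u * s) := e.eq
            _ = t * (r * u) * s := by group
        exact mul_left_cancel (mul_right_cancel h3)
  rcases le_total i j with h | h
  · obtain ⟨k, rfl⟩ := Nat.exists_eq_add_of_le h
    rw [conjPow_add u a i k]
    exact (Commute.conj_iff (a ^ i)).2 (hu k)
  · obtain ⟨k, rfl⟩ := Nat.exists_eq_add_of_le h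
    rw [conjPow_add u a j k]
    exact ((Commute.conj_iff (a ^ j)).2 (hu k)).symm

/-- the word of a monic linear or quadratic polynomial keeps the conjugates inside `⟨u, u^a⟩` -/
theorem commute_conjPow_of_small {H : Type*} [Group H] {p : ℕ} [Fact p.Prime] {u a : H}
    (h1 : Commute u (conjPow u a 1)) {f : (ZMod p)[X]} (hf : f.Monic) (hd0 : 1 ≤ f.natDegree)
    (hd : f.natDegree ≤ 2) (hw : pw u a f = 1) (i j : ℕ) :
    Commute (conjPow u a i) (conjPow u a j) := by
  set M := Subgroup.closure ({u, conjPow u a 1} : Set H) with hM
  have hu : u ∈ M := Subgroup.subset_closure (by simp)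
  have hu1 : conjPow u a 1 ∈ M := Subgroup.subset_closure (by simp)
  have h2 : conjPow u a 2 ∈ M := by
    have hone : ((1 : ZMod p)).val = 1 := ZMod.val_one p
    have hlead := hf.coeff_natDegree
    rcases Nat.lt_or_ge f.natDegree 2 with h | h
    · have hn : f.natDegree = 1 := by omega
      rw [pw, hn] at hw
      rw [hn] at hlead
      simp [List.range_succ, conjPow_zero, hlead, hone] at hw
      have e : conjPow u a 1 = (u ^ (f.coeff 0).val)⁻¹ := eq_inv_of_mul_eq_one_right hw
      have e2 : conjPow u a 2 = (conjPow u a 1 ^ (f.coeff 0).val)⁻¹ := by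
        rw [show (2 : ℕ) = 1 + 1 from rfl, conjPow_add u a 1 1]
        conv_lhs => rw [e]
        simp only [conjPow, conj_pow]
        group
      rw [e2]
      exact inv_mem (pow_mem hu1 _)
    · have hn : f.natDegree = 2 := by omega
      rw [pw, hn] at hw
      rw [hn] at hlead
      simp [List.range_succ, conjPow_zero, hlead, hone, ← mul_assoc] at hw
      rw [eq_inv_of_mul_eq_one_right hw]
      exact inv_mem (mul_mem (pow_mem hu _) (pow_mem hu1 _))
  have hconj : ∀ x ∈ M, a * x * a⁻¹ ∈ M := by
    intro x hx
    have : M ≤ M.comap (MulAut.conj a).toMonoidHom := by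
      rw [hM, Subgroup.closure_le]
      rintro y hy
      rcases hy with rfl | rfl
      · show MulAut.conj a y ∈ Subgroup.closure ({y, conjPow y a 1} : Set H)
        rw [MulAut.conj_apply]
        exact Subgroup.subset_closure (Or.inr (by simp [conjPow]))
      · have e : a * conjPow u a 1 * a⁻¹ = conjPow u a 2 := by
          rw [show (2 : ℕ) = 1 + 1 from rfl, conjPow_add u a 1 1, pow_one]
        show MulAut.conj a (conjPow u a 1) ∈ M
        rw [MulAut.conj_apply, e]; exact h2
    simpa using this hx
  have hall : ∀ n, conjPow u a n ∈ M := by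
    intro n
    induction n with
    | zero => rwa [conjPow_zero]
    | succ n ih =>
      rw [add_comm, conjPow_add u a 1 n, pow_one]
      exact hconj _ ih
  have hcomm : ∀ x ∈ M, ∀ y ∈ M, Commute x y := by
    intro x hx y hy
    refine Subgroup.closure_induction₂ (p := fun x y _ _ => Commute x y) ?_ ?_ ?_ ?_ ?_ ?_ ?_ hx hy
    · rintro x y (rfl | rfl) (rfl | rfl)
      · exact Commute.refl _
      · exact h1
      · exact h1.symm
      · exact Commute.refl _
    · exact fun _ _ => Commute.one_left _
    · exact fun _ _ => Commute.one_right _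
    · exact fun _ _ _ _ _ _ h h' => h.mul_left h'
    · exact fun _ _ _ _ _ _ h h' => h.mul_right h'
    · exact fun _ _ _ _ h => h.inv_left
    · exact fun _ _ _ _ h => h.inv_right
  exact hcomm _ (hall i) _ (hall j)

section Module

variable {H : Type*} [Group H] {p : ℕ} [Fact p.Prime] {u a : H}

/-- polynomials act on the abelian group generated by the conjugates -/
theorem exists_polyHom (hu : u ^ p = 1) (hc : ∀ i j, Commute (conjPow u a i) (conjPow u a j)) :
    ∃ P : (ZMod p)[X] → H, (∀ f g, P (f + g) = P f * P g) ∧ (∀ f, P f = pw u a f) ∧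
      (∀ f, P (X * f) = a * P f * a⁻¹) := by
  set M : Subgroup H := Subgroup.closure (Set.range (conjPow u a)) with hM
  haveI : IsMulCommutative M := Subgroup.isMulCommutative_closure (by
    rintro x ⟨i, rfl⟩ y ⟨j, rfl⟩; exact hc i j)
  letI : CommGroup M := { (inferInstance : Group M) with mul_comm := mul_comm' }
  have hpM : ∀ x : M, x ^ p = 1 := by
    rintro ⟨x, hx⟩
    induction hx using Subgroup.closure_induction with
    | mem x hx =>
      obtain ⟨i, rfl⟩ := hx
      apply Subtype.ext
      simp [conjPow, conj_pow, hu]
    | one => exact one_pow _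
    | mul x y hx hy h h' =>
      rw [show (⟨x * y, mul_mem hx hy⟩ : M) = ⟨x, hx⟩ * ⟨y, hy⟩ from rfl, mul_pow, h, h', one_mul]
    | inv x hx h =>
      rw [show (⟨x⁻¹, inv_mem hx⟩ : M) = ⟨x, hx⟩⁻¹ from rfl, inv_pow, h, inv_one]
  have hst : ∀ x ∈ M, a * x * a⁻¹ ∈ M := by
    intro x hx
    have : M ≤ M.comap (MulAut.conj a).toMonoidHom := by
      rw [hM, Subgroup.closure_le]
      rintro y ⟨i, rfl⟩
      show MulAut.conj a (conjPow u a i) ∈ M
      rw [MulAut.conj_apply]
      exact Subgroup.subset_closure ⟨1 + i, by rw [conjPow_add u a 1 i, pow_one]⟩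
    simpa using this hx
  letI : Module (ZMod p) (Additive M) :=
    AddCommGroup.zmodModule (n := p) fun (x : Additive M) => show p • x = 0 from congrArg Additive.ofMul (hpM x.toMul)
  let c : M →* M :=
    { toFun := fun x => ⟨a * x * a⁻¹, hst x x.2⟩
      map_one' := Subtype.ext (by simp)
      map_mul' := fun x y => Subtype.ext (by simp [mul_assoc]) }
  let L : Module.End (ZMod p) (Additive M) := (MonoidHom.toAdditive c).toZModLinearMap p
  let u0 : Additive M := Additive.ofMul ⟨conjPow u a 0, Subgroup.subset_closure ⟨0, rfl⟩⟩
  have hLi : ∀ i : ℕ, ((Additive.toMul ((L ^ i) u0) : M) : H) = conjPow u a i := by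
    intro i
    induction i with
    | zero => rfl
    | succ i ih =>
      rw [pow_succ', Module.End.mul_apply, add_comm i 1, conjPow_add u a 1 i, pow_one, ← ih]
      rfl
  refine ⟨fun f => ((Additive.toMul (aeval L f u0) : M) : H), fun f g => ?_, fun f => ?_, fun f => ?_⟩
  · simp only [map_add, LinearMap.add_apply, toMul_add, Subgroup.coe_mul]
  · simp only
    rw [aeval_eq_sum_range, LinearMap.sum_apply, pw]
    have : ∀ n : ℕ, ((Additive.toMul (∑ i ∈ Finset.range n, (f.coeff i • L ^ i) u0) : M) : H) =
        ((List.range n).map fun i => conjPow u a i ^ (f.coeff i).val).prod := by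
      intro n
      induction n with
      | zero => simp
      | succ n ih =>
        rw [Finset.sum_range_succ, toMul_add, Subgroup.coe_mul, ih, List.range_succ]
        simp only [List.map_append, List.map_singleton, List.prod_append, List.prod_singleton]
        congr 1
        rw [LinearMap.smul_apply, ← ZMod.natCast_zmod_val (f.coeff n), Nat.cast_smul_eq_nsmul,
          toMul_nsmul, Subgroup.coe_pow, hLi, ZMod.natCast_zmod_val]
    exact this _
  · simp only [map_mul, aeval_X, Module.End.mul_apply]
    rfl

variable {F : Type*} [Field F]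

/-- the parametrisation of the conjugates by the field `(ZMod p)[α]` -/
theorem exists_param [Algebra (ZMod p) F] (hu : u ^ p = 1) (hc : ∀ i j, Commute (conjPow u a i) (conjPow u a j))
    (α : F) (hgen : ∀ β : F, ∃ f : (ZMod p)[X], aeval α f = β) (hμ : pw u a (minpoly (ZMod p) α) = 1) :
    ∃ x : F → H, (∀ b c, x (b + c) = x b * x c) ∧ x 1 = u ∧ (∀ b, x (α * b) = a * x b * a⁻¹) ∧
      ∀ f : (ZMod p)[X], pw u a f = x (aeval α f) := by
  obtain ⟨P, hadd, hP, hX⟩ := exists_polyHom hu hc
  have hP0 : P 0 = 1 := by
    have := hadd 0 0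
    rwa [add_zero, left_eq_mul] at this
  have hker : ∀ g : (ZMod p)[X], P (g * minpoly (ZMod p) α) = 1 := by
    intro g
    induction g using Polynomial.induction_on with
    | C c =>
      rw [← ZMod.natCast_zmod_val c, map_natCast]
      induction c.val with
      | zero => rw [Nat.cast_zero, zero_mul, hP0]
      | succ n ih => rw [Nat.cast_succ, add_mul, one_mul, hadd, ih, hP, hμ, one_mul]
    | add f g hf hg => rw [add_mul, hadd, hf, hg, one_mul]
    | monomial n c ih =>
      rw [show C c * X ^ (n + 1) * minpoly (ZMod p) α = X * (C c * X ^ n * minpoly (ZMod p) α) by ring,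
        hX, ih, mul_one, mul_inv_cancel]
  have hwd : ∀ f g : (ZMod p)[X], aeval α f = aeval α g → P f = P g := by
    intro f g h
    obtain ⟨q, hq⟩ := minpoly.dvd (ZMod p) α (p := f - g) (by rw [map_sub, h, sub_self])
    rw [show f = g + q * minpoly (ZMod p) α by rw [mul_comm, ← hq]; ring, hadd, hker, mul_one]
  choose s hs using hgen
  refine ⟨fun b => P (s b), fun b c => ?_, ?_, fun b => ?_, fun f => ?_⟩
  · simp only
    rw [← hadd]
    exact hwd _ _ (by rw [map_add, hs, hs, hs])
  · simp only
    rw [hwd (s 1) 1 (by rw [hs, map_one]), hP]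
    have : ((1 : ZMod p)).val = 1 := ZMod.val_one p
    simp [pw, conjPow_zero, this]
  · simp only
    rw [← hX]
    exact hwd _ _ (by rw [map_mul, aeval_X, hs, hs])
  · rw [← hP]
    exact hwd _ _ (hs _).symm

end Module

end CfsgLib.Lie.ShortPres
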