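import Cfsg.Agent.Lib.Lie.Chev.CoverSymbol
import Cfsg.Agent.Lib.Lie.Chev.CoverTorus
import Cfsg.Agent.Lib.Lie.Chev.FullAll
import Cfsg.Agent.Lib.Lie.Chev.CoverPairs
import Cfsg.Agent.Lib.Lie.Chev.Order
import Cfsg.Agent.Lib.Lie.Chev.PoinB2
import Cfsg.Agent.Lib.Lie.Chev.TorData
import Cfsg.Agent.Lib.Classical.SpOrder

/-!
# The Steinberg cover of type `B₂` has at most `|Sp₄(q)|` elements
-/

set_option autoImplicit false

namespace CfsgLib.Lie.ShortPres.BTwo

open Cfsg.Lie CfsgLib.Lie.Chev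

variable (K : Type*) [Field K] [Fintype K]

theorem cover_finite_le :
    Finite (chevB2.SteinbergCover K) ∧
      Nat.card (chevB2.SteinbergCover K) ≤ Nat.card (Matrix.symplecticGroup (Fin 2) K) := by
  classical
  have hD : chevB2 ∈ [chevG2, chevB2, chevD4, chevF4, chevE6, chevE7, chevE8] := by simp
  let C : Full chevB2 := fullOf hD
  have hP := hasPair_tab hD C
  obtain ⟨e, -⟩ := C.exists_cover_equiv (K := K) hP
  haveI : Finite ↥(chevB2.group K) := inferInstance
  have hker : (C.thetaSt (K := K)).ker = (C.G.torθ (K := K)).ker.map (C.torSt hP) := C.kerSt_eq hP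
  haveI : Finite ↥(C.thetaSt (K := K)).ker := by
    rw [hker]
    exact Finite.of_surjective _ ((C.torSt hP).subgroupMap_surjective _)
  haveI : Finite (chevB2.SteinbergGroup K ⧸ (C.thetaSt (K := K)).ker) :=
    Finite.of_equiv _ (QuotientGroup.quotientKerEquivRange (C.thetaSt (K := K))).symm.toEquiv
  haveI : Finite (chevB2.SteinbergGroup K) :=
    Finite.of_equiv _ (Subgroup.groupEquivQuotientProdSubgroup
      (s := (C.thetaSt (K := K)).ker)).symm
  refine ⟨Finite.of_equiv _ e.symm.toEquiv, ?_⟩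
  rw [Nat.card_congr e.toEquiv, Subgroup.card_eq_card_quotient_mul_card_subgroup (C.thetaSt (K := K)).ker,
    Nat.card_congr (QuotientGroup.quotientKerEquivRange (C.thetaSt (K := K))).toEquiv, C.thetaSt_range, hker]
  refine le_trans (Nat.mul_le_mul_left _ (Nat.le_of_dvd Nat.card_pos
    (Subgroup.card_dvd_of_surjective _ ((C.torSt hP).subgroupMap_surjective _)))) ?_
  have hT := kerB2_ok
  have hd := C.G.card_diagonal (K := K) kerB2 hT
  have hq : Nat.card (chevB2.diagonalSubgroup K) * Nat.card ↥(C.G.torθ (K := K)).ker =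
      (Fintype.card K - 1) ^ 2 := by
    have h := Subgroup.card_eq_card_quotient_mul_card_subgroup (C.G.torθ (K := K)).ker
    rw [Nat.card_congr (QuotientGroup.quotientKerEquivRange (C.G.torθ (K := K))).toEquiv,
      ← C.G.diagonal_eq_range, Nat.card_fun, Nat.card_units, Nat.card_fin, Nat.card_eq_fintype_card] at h
    exact h.symm
  have hf := C.order_formula (K := K) kerB2 hT
  have hg : Nat.card ↥(C.G.torθ (K := K)).ker = Nat.gcd kerB2.d (Fintype.card K - 1) ^ kerB2.k := by
    have hpos : 0 < Nat.card (chevB2.diagonalSubgroup K) := Nat.card_pos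
    have : Nat.card (chevB2.diagonalSubgroup K) * Nat.card ↥(C.G.torθ (K := K)).ker =
        Nat.card (chevB2.diagonalSubgroup K) * Nat.gcd kerB2.d (Fintype.card K - 1) ^ kerB2.k := by
      rw [hq, mul_comm _ (Nat.gcd _ _ ^ _)]
      exact hd.symm
    exact Nat.eq_of_mul_eq_mul_left hpos this
  rw [hg, mul_comm]
  have h1 : (1 : ℕ) ≤ Fintype.card K := Fintype.card_pos
  have h2 : 1 ≤ Fintype.card K ^ 2 := Nat.one_le_pow _ _ h1
  have h4 : 1 ≤ Fintype.card K ^ 4 := Nat.one_le_pow _ _ h1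
  have hpoin := poinB2 C.G (Fintype.card K : ℤ)
  have hsp : Nat.card (Matrix.symplecticGroup (Fin 2) K) =
      (Fintype.card K ^ 4 - 1) * Fintype.card K ^ 3 * ((Fintype.card K ^ 2 - 1) * Fintype.card K) := by
    rw [CfsgLib.Classical.card_symplectic_succ, CfsgLib.Classical.card_symplectic_succ,
      show Nat.card (Matrix.symplecticGroup (Fin 0) K) = 1 from
        Nat.card_eq_one_iff_unique.2 ⟨inferInstance, ⟨1⟩⟩]
    ring
  have hf' : ((Nat.gcd kerB2.d (Fintype.card K - 1) ^ kerB2.k * Nat.card ↥(chevB2.group K) : ℕ) : ℤ) =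
      (Fintype.card K : ℤ) ^ 4 * (Psum C.G Finset.univ (Fintype.card K : ℤ) * ((Fintype.card K : ℤ) - 1) ^ 2) := hf
  rw [hpoin] at hf'
  refine le_of_eq ?_
  rw [hsp]
  have : ((Nat.gcd kerB2.d (Fintype.card K - 1) ^ kerB2.k * Nat.card ↥(chevB2.group K) : ℕ) : ℤ) =
      (((Fintype.card K ^ 4 - 1) * Fintype.card K ^ 3 * ((Fintype.card K ^ 2 - 1) * Fintype.card K) : ℕ) : ℤ) := by
    rw [hf']
    push_cast [Nat.cast_sub h2, Nat.cast_sub h4]
    ring
  exact_mod_cast this

end CfsgLib.Lie.ShortPres.BTwo
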