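import Cfsg.Agent.Lib.Lie.ShortPres.B2Pairs
import Cfsg.Agent.Lib.Perm.Trans.SympGen

/-!
# Root elements, torus and Weyl elements of `Sp₄(F)`
-/

set_option autoImplicit false

namespace CfsgLib.Lie.ShortPres.BTwo

open Matrix

variable {F : Type*} [Field F]

local notation "Sp" => Matrix.symplecticGroup (Fin 2) F

/-- the blocks of the root elements -/
def xmBlocks (r : ℕ) (c : F) : Matrix (Fin 2 ⊕ Fin 2) (Fin 2 ⊕ Fin 2) F :=
  match r with
  | 0 => fromBlocks 1 0 !![-c, 0; 0, 0] 1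
  | 1 => fromBlocks 1 0 !![0, -c; -c, 0] 1
  | 2 => fromBlocks !![1, 0; c, 1] 0 0 !![1, -c; 0, 1]
  | 3 => fromBlocks 1 0 !![0, 0; 0, c] 1
  | 4 => fromBlocks 1 !![0, 0; 0, c] 0 1
  | 5 => fromBlocks !![1, c; 0, 1] 0 0 !![1, 0; -c, 1]
  | 6 => fromBlocks 1 !![0, -c; -c, 0] 0 1
  | 7 => fromBlocks 1 !![-c, 0; 0, 0] 0 1
  | _ => 1

theorem xmBlocks_mem (r : ℕ) (c : F) : xmBlocks r c ∈ Matrix.symplecticGroup (Fin 2) F := by
  rw [SymplecticGroup.mem_iff]
  unfold xmBlocks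
  split <;>
    (try simp only [Matrix.J, fromBlocks_transpose, fromBlocks_multiply, Matrix.one_mul, Matrix.transpose_one,
      Matrix.mul_one]) <;>
    (ext (i | i) (j | j) <;> fin_cases i <;> fin_cases j <;>
      simp [Matrix.J, Matrix.mul_apply, Matrix.vecMul, dotProduct, Fin.sum_univ_two, Matrix.one_apply])

/-- the root elements -/
def xm (r : ℕ) (c : F) : Sp := ⟨xmBlocks r c, xmBlocks_mem r c⟩

/-- the Weyl element of the short root -/
def wA : Sp :=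
  ⟨fromBlocks !![0, 1; -1, 0] 0 0 !![0, 1; -1, 0], by
    rw [SymplecticGroup.mem_iff]
    simp only [Matrix.J, fromBlocks_transpose, fromBlocks_multiply]
    ext (i | i) (j | j) <;> fin_cases i <;> fin_cases j <;>
      simp [Matrix.mul_apply, Matrix.vecMul, dotProduct, Fin.sum_univ_two]⟩

/-- the Weyl element of the long root -/
def wB : Sp :=
  ⟨fromBlocks !![1, 0; 0, 0] !![0, 0; 0, 1] !![0, 0; 0, -1] !![1, 0; 0, 0], by
    rw [SymplecticGroup.mem_iff]
    simp only [Matrix.J, fromBlocks_transpose, fromBlocks_multiply]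
    ext (i | i) (j | j) <;> fin_cases i <;> fin_cases j <;>
      simp [Matrix.mul_apply, Matrix.vecMul, dotProduct, Fin.sum_univ_two]⟩

/-- the torus -/
def tm (a b : Fˣ) : Sp :=
  ⟨fromBlocks !![(a : F), 0; 0, b] 0 0 !![(a : F)⁻¹, 0; 0, (b : F)⁻¹], by
    rw [SymplecticGroup.mem_iff]
    simp only [Matrix.J, fromBlocks_transpose, fromBlocks_multiply]
    ext (i | i) (j | j) <;> fin_cases i <;> fin_cases j <;>
      simp [Matrix.mul_apply, Matrix.vecMul, dotProduct, Fin.sum_univ_two]⟩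

/-- the weights of the torus -/
def wt (a b : F) (r : ℕ) : F :=
  [a⁻¹ * a⁻¹, a⁻¹ * b⁻¹, a⁻¹ * b, b⁻¹ * b⁻¹, b * b, a * b⁻¹, a * b, a * a].getD r 1

theorem sp_ext {A B : Sp} (h : ∀ i j, A.1 i j = B.1 i j) : A = B := Subtype.ext (Matrix.ext h)

theorem sp_mul_val (A B : Sp) : (A * B).1 = A.1 * B.1 := rfl

theorem xm_add {r : ℕ} (hr : r < 8) (a b : F) : xm r (a + b) = xm r a * xm r b := by
  refine Subtype.ext ?_
  rw [sp_mul_val]
  interval_cases r <;> simp only [xm, xmBlocks, fromBlocks_multiply] <;>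
    (ext (i | i) (j | j) <;> fin_cases i <;> fin_cases j <;>
      simp [Matrix.mul_apply, Fin.sum_univ_two, Matrix.one_apply] <;> ring)

theorem xm_zero {r : ℕ} (hr : r < 8) : xm r (0 : F) = 1 := by
  have := xm_add hr (0 : F) 0
  rwa [add_zero, left_eq_mul] at this

theorem xm_inv {r : ℕ} (hr : r < 8) (a : F) : (xm r a)⁻¹ = xm r (-a) :=
  inv_eq_of_mul_eq_one_right (by rw [← xm_add hr, add_neg_cancel, xm_zero hr])

theorem wA_conj {r : ℕ} (hr : r < 8) (c : F) : wA * xm r c * (wA : Sp)⁻¹ = xm (piA r) ((etA r : F) * c) := by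
  rw [mul_inv_eq_iff_eq_mul]
  refine Subtype.ext ?_
  rw [sp_mul_val, sp_mul_val]
  interval_cases r <;> simp only [xm, xmBlocks, wA, piA, etA, List.getD_cons_succ, List.getD_cons_zero,
      fromBlocks_multiply] <;>
    (ext (i | i) (j | j) <;> fin_cases i <;> fin_cases j <;>
      simp [Matrix.mul_apply, Fin.sum_univ_two, Matrix.one_apply])

theorem wB_conj {r : ℕ} (hr : r < 8) (c : F) : wB * xm r c * (wB : Sp)⁻¹ = xm (piB r) ((etB r : F) * c) := by
  rw [mul_inv_eq_iff_eq_mul]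
  refine Subtype.ext ?_
  rw [sp_mul_val, sp_mul_val]
  interval_cases r <;> simp only [xm, xmBlocks, wB, piB, etB, List.getD_cons_succ, List.getD_cons_zero,
      fromBlocks_multiply] <;>
    (ext (i | i) (j | j) <;> fin_cases i <;> fin_cases j <;>
      simp [Matrix.mul_apply, Fin.sum_univ_two, Matrix.one_apply])

theorem tm_conj (a b : Fˣ) {r : ℕ} (hr : r < 8) (c : F) :
    tm a b * xm r c * (tm a b : Sp)⁻¹ = xm r (wt (a : F) b r * c) := by
  rw [mul_inv_eq_iff_eq_mul]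
  refine Subtype.ext ?_
  rw [sp_mul_val, sp_mul_val]
  interval_cases r <;> simp only [xm, xmBlocks, tm, wt, List.getD_cons_succ, List.getD_cons_zero,
      fromBlocks_multiply] <;>
    (ext (i | i) (j | j) <;> fin_cases i <;> fin_cases j <;>
      simp [Matrix.mul_apply, Fin.sum_univ_two, Matrix.one_apply] <;> field_simp)

theorem tm_one : tm (1 : Fˣ) 1 = 1 := by
  refine sp_ext ?_
  rintro (i | i) (j | j) <;> fin_cases i <;> fin_cases j <;> simp [tm, Matrix.one_apply]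

theorem tm_mul (a b a' b' : Fˣ) : tm a b * tm a' b' = tm (a * a') (b * b') := by
  refine Subtype.ext ?_
  rw [sp_mul_val]
  simp only [tm, fromBlocks_multiply]
  ext (i | i) (j | j) <;> fin_cases i <;> fin_cases j <;> simp [Matrix.mul_apply, Fin.sum_univ_two, mul_comm]

theorem tm_pow (a b : Fˣ) (n : ℕ) : tm a b ^ n = tm (a ^ n) (b ^ n) := by
  induction n with
  | zero => simp [tm_one]
  | succ n ih => rw [pow_succ, ih, tm_mul, pow_succ, pow_succ]

theorem tm_inv (a b : Fˣ) : (tm a b)⁻¹ = tm a⁻¹ b⁻¹ :=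
  inv_eq_of_mul_eq_one_right (by rw [tm_mul, mul_inv_cancel, mul_inv_cancel, tm_one])

theorem wA_tm (a b : Fˣ) : wA * tm a b * (wA : Sp)⁻¹ = tm b a := by
  rw [mul_inv_eq_iff_eq_mul]
  refine Subtype.ext ?_
  rw [sp_mul_val, sp_mul_val]
  simp only [tm, wA, fromBlocks_multiply]
  ext (i | i) (j | j) <;> fin_cases i <;> fin_cases j <;> simp [Matrix.mul_apply, Fin.sum_univ_two]

theorem wB_tm (a b : Fˣ) : wB * tm a b * (wB : Sp)⁻¹ = tm a b⁻¹ := by
  rw [mul_inv_eq_iff_eq_mul]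
  refine Subtype.ext ?_
  rw [sp_mul_val, sp_mul_val]
  simp only [tm, wB, fromBlocks_multiply]
  ext (i | i) (j | j) <;> fin_cases i <;> fin_cases j <;> simp [Matrix.mul_apply, Fin.sum_univ_two]

theorem wA_eq : xm 5 1 * xm 2 (-1) * xm 5 1 = (wA : Sp) := by
  refine Subtype.ext ?_
  rw [sp_mul_val, sp_mul_val]
  simp only [xm, xmBlocks, wA, fromBlocks_multiply]
  ext (i | i) (j | j) <;> fin_cases i <;> fin_cases j <;> simp [Matrix.mul_apply, Fin.sum_univ_two]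

theorem long_eq (a : Fˣ) : xm 4 (a : F) * xm 3 (-(a : F)⁻¹) * xm 4 (a : F) = tm 1 a * (wB : Sp) := by
  refine Subtype.ext ?_
  rw [sp_mul_val, sp_mul_val, sp_mul_val]
  simp only [xm, xmBlocks, wB, tm, fromBlocks_multiply]
  ext (i | i) (j | j) <;> fin_cases i <;> fin_cases j <;> simp [Matrix.mul_apply, Fin.sum_univ_two]

theorem wB_eq : xm 4 1 * xm 3 (-1) * xm 4 1 = (wB : Sp) := by
  have := long_eq (1 : Fˣ)
  rwa [tm_one, one_mul, Units.val_one, inv_one] at this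

theorem wA_sq : (wA : Sp) ^ 2 = tm (-1) (-1) := by
  refine Subtype.ext ?_
  rw [sq, sp_mul_val]
  simp only [tm, wA, fromBlocks_multiply]
  ext (i | i) (j | j) <;> fin_cases i <;> fin_cases j <;> simp [Matrix.mul_apply, Fin.sum_univ_two]

theorem val_tm_neg_one : (tm (-1) (-1) : Sp).1 = -1 := by
  ext (i | i) (j | j) <;> fin_cases i <;> fin_cases j <;> simp [tm, Matrix.one_apply]

/-- the four base commutators -/
theorem base_rels : Commute (xm 5 (1 : F)) (xm 7 1) ∧ Commute (xm 4 (1 : F)) (xm 7 1) ∧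
    (xm 4 1)⁻¹ * (xm 5 1)⁻¹ * xm 4 1 * xm 5 1 = xm 6 1 * (xm 7 (-1 : F)) ∧
    (xm 6 1)⁻¹ * (xm 5 1)⁻¹ * xm 6 1 * xm 5 1 = (xm 7 (-2 : F)) := by
  rw [xm_inv (show 4 < 8 by norm_num), xm_inv (show 5 < 8 by norm_num), xm_inv (show 6 < 8 by norm_num)]
  refine ⟨Subtype.ext ?_, Subtype.ext ?_, Subtype.ext ?_, Subtype.ext ?_⟩ <;>
    simp only [sp_mul_val, xm, xmBlocks, fromBlocks_multiply] <;>
    (ext (i | i) (j | j) <;> fin_cases i <;> fin_cases j <;>
      simp [Matrix.mul_apply, Fin.sum_univ_two, Matrix.one_apply] <;> ring)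

section Generation

variable {S : Subgroup (Matrix.symplecticGroup (Fin 2) F)}

theorem mem_of_orbit (hx : ∀ r, r < 8 → ∀ c, xm r c ∈ S) (ht : ∀ a, tm a 1 ∈ S)
    (v : Fin 2 ⊕ Fin 2 → F) (hv : v ≠ 0) : ∃ g ∈ S, g.1 *ᵥ v = Pi.single (.inl 0) 1 := by
  have hA : (wA : Sp) ∈ S := wA_eq (F := F) ▸ mul_mem (mul_mem (hx 5 (by norm_num) _) (hx 2 (by norm_num) _))
    (hx 5 (by norm_num) _)
  have hB : (wB : Sp) ∈ S := wB_eq (F := F) ▸ mul_mem (mul_mem (hx 4 (by norm_num) _) (hx 3 (by norm_num) _))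
    (hx 4 (by norm_num) _)
  -- vectors with non-zero first coordinate
  have first : ∀ w : Fin 2 ⊕ Fin 2 → F, w (.inl 0) ≠ 0 → ∃ g ∈ S, g.1 *ᵥ w = Pi.single (.inl 0) 1 := by
    intro w hw
    set g1 : Sp := xm 2 (-(w (.inl 1) / w (.inl 0))) with hg1
    set w1 := g1.1 *ᵥ w with hw1
    set g2 : Sp := xm 1 (w1 (.inr 1) / w (.inl 0)) with hg2
    set w2 := g2.1 *ᵥ w1 with hw2
    set g3 : Sp := xm 0 (w2 (.inr 0) / w (.inl 0)) with hg3
    refine ⟨tm (Units.mk0 (w (.inl 0)) hw)⁻¹ 1 * g3 * g2 * g1,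
      mul_mem (mul_mem (mul_mem (ht _) (hx 0 (by norm_num) _)) (hx 1 (by norm_num) _)) (hx 2 (by norm_num) _), ?_⟩
    simp only [sp_mul_val, ← Matrix.mulVec_mulVec]
    rw [← hw1, ← hw2, hg3, hw2, hg2, hw1, hg1]
    ext (i | i) <;> fin_cases i <;>
      simp [tm, xm, xmBlocks, fromBlocks_mulVec, Matrix.mulVec, dotProduct, Fin.sum_univ_two] <;>
      field_simp <;> simp <;> ring
  -- some Weyl element moves a non-zero coordinate first
  suffices ∃ g ∈ S, (g.1 *ᵥ v) (.inl 0) ≠ 0 by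
    obtain ⟨g, hg, hgv⟩ := this
    obtain ⟨k, hk, hkv⟩ := first _ hgv
    exact ⟨k * g, mul_mem hk hg, by rw [sp_mul_val, ← Matrix.mulVec_mulVec, hkv]⟩
  obtain ⟨i, hi⟩ : ∃ i, v i ≠ 0 := not_forall.1 fun h => hv (funext h)
  rcases i with i | i <;> fin_cases i <;> simp only [Fin.zero_eta, Fin.mk_one, Fin.isValue] at hi
  · exact ⟨1, one_mem _, by simpa using hi⟩
  · exact ⟨wA, hA, by simpa [wA, Matrix.mulVec, dotProduct, Fin.sum_univ_two] using hi⟩
  · exact ⟨wA * wB * wA, mul_mem (mul_mem hA hB) hA, by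
      simp [sp_mul_val, fromBlocks_multiply, wA, wB, Matrix.mulVec, dotProduct, Fin.sum_univ_two, Matrix.mul_apply]
      exact hi⟩
  · exact ⟨wA * wB, mul_mem hA hB, by
      simpa [sp_mul_val, fromBlocks_multiply, wA, wB, Matrix.mulVec, dotProduct, Fin.sum_univ_two, Matrix.mul_apply]
        using hi⟩

theorem xm_seven (c : F) : xm 7 c = CfsgLib.Sp.tv (Pi.single (Sum.inl (0 : Fin 2)) 1) (-c) := by
  refine CfsgLib.Sp.sp_ext_vec fun u => ?_
  rw [CfsgLib.Sp.tv_mulVec, CfsgLib.Sp.sf_single_inl]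
  ext (i | i) <;> fin_cases i <;>
    simp [xm, xmBlocks, fromBlocks_mulVec, Matrix.mulVec, dotProduct, Fin.sum_univ_two]

theorem eq_top_of_mem (hx : ∀ r, r < 8 → ∀ c, xm r c ∈ S) (ht : ∀ a, tm a 1 ∈ S) : S = ⊤ := by
  rw [eq_top_iff, ← CfsgLib.Perm.Trans.Symp.closure_tvSet (F := F) (m := 2), Subgroup.closure_le]
  rintro A ⟨w, c, hA⟩
  obtain rfl : A = CfsgLib.Sp.tv w c := Subtype.ext hA
  rcases eq_or_ne w 0 with rfl | hw
  · rw [show CfsgLib.Sp.tv (0 : Fin 2 ⊕ Fin 2 → F) c = 1 from CfsgLib.Sp.sp_ext_vec fun x => by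
      simp [CfsgLib.Sp.tv_mulVec]]
    exact one_mem _
  obtain ⟨g, hg, hgw⟩ := mem_of_orbit hx ht w hw
  have he : CfsgLib.Sp.tv (Pi.single (Sum.inl (0 : Fin 2)) 1) c ∈ S := by
    have := hx 7 (by norm_num) (-c)
    rwa [xm_seven, neg_neg] at this
  rw [← hgw, ← CfsgLib.Sp.tv_conj] at he
  have := mul_mem (mul_mem (inv_mem hg) he) hg
  rwa [show g⁻¹ * (g * CfsgLib.Sp.tv w c * g⁻¹) * g = CfsgLib.Sp.tv w c by group] at this

end Generation

end CfsgLib.Lie.ShortPres.BTwo
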