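import Cfsg.Agent.Lib.Lie.ShortPres.B2Prm
import Cfsg.Agent.Lib.Lie.ShortPres.B2Mat
import Cfsg.Agent.Lib.Lie.ShortPres.B2Count
import Cfsg.Agent.Lib.Lie.ShortPres.SL3

/-!
# Presentations of `Sp₄(F)` and `PSp₄(F)` by six generators and at most 28 relations
-/

set_option autoImplicit false

namespace CfsgLib.Lie.ShortPres.BTwo

open Polynomial

variable {F : Type*} [Field F] [Fintype F] {p : ℕ} [hp : Fact p.Prime] [Algebra (ZMod p) F]

/-- the six matrices -/
def gens (ω : Fˣ) : Fin 6 → Matrix.symplecticGroup (Fin 2) F :=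
  ![xm 5 1, wA, xm 4 1, wB, tm ω 1, tm 1 ω]

omit [Fintype F] in
theorem eqs_gens {P : Prm p} {ω : Fˣ}
    (hω : P.μ = minpoly (ZMod p) (ω : F) ∧ P.μ' = minpoly (ZMod p) (((ω : F) ^ P.m) ^ 2) ∧
      aeval (ω : F) P.gi = (ω : F)⁻¹ ∧ aeval (((ω : F) ^ P.m) ^ 2) P.g2 = (ω : F) ^ 2 ∧
      aeval (((ω : F) ^ P.m) ^ 2) P.g1 = ω ∧ aeval (((ω : F) ^ P.m) ^ 2) P.gj = (ω : F)⁻¹ ∧
      (P.big = true → (ω : F) ^ P.k0 = 1 + ω ∧ ((ω : F) ^ P.k) ^ 2 = 1 + ((ω : F) ^ P.m) ^ 2)) :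
    ∀ x ∈ eqs P (xm 5 1) wA (xm 4 1) wB (tm ω 1) (tm 1 ω), x.1 = x.2 := by
  obtain ⟨hμ, hμ', hgi, hg2, hg1, hgj, hbig⟩ := hω
  haveI : CharP F p := (Algebra.charP_iff (ZMod p) F p).1 inferInstance
  have h5 : 5 < 8 := by norm_num
  have h4 : 4 < 8 := by norm_num
  have adx : Act (tm ω 1) (xm 5) (ω : F) := fun b => by
    rw [tm_conj _ _ h5]; simp [wt]
  have aez : ∀ n : ℕ, Act (tm 1 ω ^ n) (xm 4) (((ω : F) ^ n) ^ 2) := fun n b => by
    rw [tm_pow, tm_conj _ _ h4]; simp [wt, sq]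
  have adz : ∀ b : F, tm ω 1 * xm 4 b * (tm ω 1)⁻¹ = xm 4 b := fun b => by
    rw [tm_conj _ _ h4]; simp [wt]
  have adn : ∀ (n : ℕ) (b : F), tm ω 1 ^ n * xm 5 b * (tm ω 1 ^ n)⁻¹ = xm 5 ((ω : F) ^ n * b) := fun n b => by
    rw [tm_pow, tm_conj _ _ h5]; simp [wt]
  have pwu : ∀ f : (ZMod p)[X], pw (xm 5 1) (tm ω 1) f = xm 5 (aeval (ω : F) f) :=
    fun f => pw_eq_of_param (xm 5) (xm_add h5) _ _ adx f
  have pwv : ∀ f : (ZMod p)[X], pw (xm 4 1) (tm 1 ω ^ P.m) f = xm 4 (aeval (((ω : F) ^ P.m) ^ 2) f) :=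
    fun f => pw_eq_of_param (xm 4) (xm_add h4) _ _ (aez P.m) f
  have hu1 : conjPow (xm 5 (1 : F)) (tm ω 1) 1 = xm 5 (ω : F) := by
    rw [conjPow, pow_one, adx, mul_one]
  have hv1 : conjPow (xm 4 (1 : F)) (tm 1 ω ^ P.m) 1 = xm 4 (((ω : F) ^ P.m) ^ 2) := by
    rw [conjPow, pow_one, aez, mul_one]
  have hpow : ∀ {r : ℕ}, r < 8 → ∀ n : ℕ, xm r (1 : F) ^ n = xm r (n : F) := fun {r} hr n => by
    induction n with
    | zero => rw [pow_zero, Nat.cast_zero, xm_zero hr]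
    | succ n ih => rw [pow_succ, ih, ← xm_add hr, Nat.cast_succ]
  obtain ⟨b57, b47, b54, b56⟩ := base_rels (F := F)
  have A : ∀ {r : ℕ} (c : F), r < 8 → wA * xm r c * (wA : Matrix.symplecticGroup (Fin 2) F)⁻¹ =
      xm (piA r) (-c) := fun c hr => by rw [wA_conj hr]; simp [etA]
  have A5 := fun c : F => A (r := 5) c (by norm_num)
  have A4 := fun c : F => A (r := 4) c (by norm_num)
  have A6 := fun c : F => A (r := 6) c (by norm_num)
  have A1 := fun c : F => A (r := 1) c (by norm_num)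
  have A3 := fun c : F => A (r := 3) c (by norm_num)
  simp only [show piA 5 = 2 from rfl, show piA 4 = 7 from rfl, show piA 6 = 6 from rfl,
    show piA 1 = 1 from rfl, show piA 3 = 0 from rfl] at A5 A4 A6 A1 A3
  have B : ∀ {r : ℕ} (c : F), r < 8 → wB * xm r c * (wB : Matrix.symplecticGroup (Fin 2) F)⁻¹ =
      xm (piB r) ((etB r : F) * c) := fun c hr => wB_conj hr c
  have B5 : ∀ c : F, wB * xm 5 c * (wB : Matrix.symplecticGroup (Fin 2) F)⁻¹ = xm 6 c := fun c => by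
    rw [B c h5]; simp [piB, etB]
  have B4 : ∀ c : F, wB * xm 4 c * (wB : Matrix.symplecticGroup (Fin 2) F)⁻¹ = xm 3 (-c) := fun c => by
    rw [B c h4]; simp [piB, etB]
  have B2 : ∀ c : F, wB * xm 2 c * (wB : Matrix.symplecticGroup (Fin 2) F)⁻¹ = xm 1 c := fun c => by
    rw [B c (by norm_num)]; simp [piB, etB]
  have B7 : ∀ c : F, wB * xm 7 c * (wB : Matrix.symplecticGroup (Fin 2) F)⁻¹ = xm 7 c := fun c => by
    rw [B c (by norm_num)]; simp [piB, etB]
  have B0 : ∀ c : F, wB * xm 0 c * (wB : Matrix.symplecticGroup (Fin 2) F)⁻¹ = xm 0 c := fun c => by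
    rw [B c (by norm_num)]; simp [piB, etB]
  have hadd := fun r (hr : r < 8) (a b : F) => (xm_add hr a b).symm
  simp only [eqs, List.forall_mem_cons, List.not_mem_nil, IsEmpty.forall_iff, implies_true, and_true]
  refine ⟨?_, ?_, ?_, ?_, ?_, ?_, ?_, ?_, ?_, ?_, ?_, ?_, ?_, ?_, ?_, ?_, ?_, ?_, ?_, ?_, ?_, ?_, ?_, ?_, ?_,
    ?_, ?_⟩
  · rw [tm_mul, tm_mul, mul_comm, mul_comm (1 : Fˣ)]
  · exact wA_tm _ _
  · exact wA_tm _ _
  · rw [wB_tm, inv_one]
  · rw [wB_tm, tm_inv, inv_one]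
  · rw [hpow h5, CharP.cast_eq_zero F p, xm_zero h5]
  · rw [hu1, hadd 5 h5, hadd 5 h5, add_comm]
  · by_cases hb : P.big = true
    · rw [if_pos hb, if_pos hb, adn, hu1, hadd 5 h5, mul_one, (hbig hb).1]
    · rw [if_neg hb, if_neg hb]
  · rw [pwu, hμ, minpoly.aeval, xm_zero h5]
  · rw [pwu, hgi, tm_conj _ _ h5]; simp [wt]
  · rw [A5]; exact wA_eq.symm
  · rw [hpow h4, CharP.cast_eq_zero F p, xm_zero h4]
  · rw [hv1, hadd 4 h4, hadd 4 h4, add_comm]
  · by_cases hb : P.big = true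
    · rw [if_pos hb, if_pos hb, aez, hv1, hadd 4 h4, mul_one, (hbig hb).2]
    · rw [if_neg hb, if_neg hb]
  · rw [pwv, hμ', minpoly.aeval, xm_zero h4]
  · exact adz 1
  · rw [pwv, hg2, tm_conj _ _ h4]; simp [wt, sq]
  · rw [B4]; exact wB_eq.symm
  · rw [pwv, pwv, hg1, hgj, B4, long_eq, mul_inv_cancel_right]
  · rw [xm_inv h5, B5, B5, A6]
  · rw [xm_inv h5, A5, neg_neg, B2, A1, A5, B2]
  · rw [xm_inv h4, A4, B7]
  · rw [B4, A3, B0]
  · rw [xm_inv h4, A4, neg_neg]; exact b57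
  · rw [xm_inv h4, A4, neg_neg]; exact b47
  · rw [B5, A4]; exact b54
  · rw [B5, hpow h4, A4, Nat.cast_two]; exact b56

/-- the relators of the equations -/
noncomputable def relators (P : Prm p) : List (FreeGroup (Fin 6)) :=
  (eqs P (FreeGroup.of 0) (FreeGroup.of 1) (FreeGroup.of 2) (FreeGroup.of 3) (FreeGroup.of 4)
    (FreeGroup.of 5)).map fun x => x.1 * x.2⁻¹

omit [Fintype F] [Algebra (ZMod p) F] in
theorem relators_iff {G : Type*} [Group G] (P : Prm p) (φ : FreeGroup (Fin 6) →* G) :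
    (∀ r ∈ relators P, φ r = 1) ↔ ∀ x ∈ eqs P (φ (FreeGroup.of 0)) (φ (FreeGroup.of 1)) (φ (FreeGroup.of 2))
      (φ (FreeGroup.of 3)) (φ (FreeGroup.of 4)) (φ (FreeGroup.of 5)), x.1 = x.2 := by
  simp only [relators, map_eqs, List.forall_mem_map, Prod.map_fst, Prod.map_snd, map_mul, map_inv, mul_inv_eq_one]

theorem presentation {n : ℕ} (hn : Fintype.card F = p ^ n) :
    (∃ rels : Finset (FreeGroup (Fin 6)), rels.card ≤ 27 ∧
      Nonempty (PresentedGroup (↑rels : Set (FreeGroup (Fin 6))) ≃* Matrix.symplecticGroup (Fin 2) F)) ∧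
    (∃ rels : Finset (FreeGroup (Fin 6)), rels.card ≤ 28 ∧
      Nonempty (PresentedGroup (↑rels : Set (FreeGroup (Fin 6))) ≃* Cfsg.PSp 2 F)) := by
  classical
  obtain ⟨P, ω₀, hP⟩ := exists_prm (F := F) hn
  obtain ⟨ω, rfl⟩ : ∃ ω : Fˣ, (ω : F) = ω₀ := ⟨Units.mk0 ω₀ hP.ne_zero, rfl⟩
  let g : Fin 6 → FreeGroup (Fin 6) := FreeGroup.of
  let R : Finset (FreeGroup (Fin 6)) := (relators P).toFinset
  have hRcard : R.card ≤ 27 := (List.toFinset_card_le _).trans (le_of_eq (by simp [relators, eqs]))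
  have hM : ∀ r ∈ R, FreeGroup.lift (gens ω) r = 1 := by
    simp only [R, List.mem_toFinset]
    rw [relators_iff]
    simp only [FreeGroup.lift_apply_of]
    exact eqs_gens ⟨hP.hμ, hP.hμ', hP.hgi, hP.hg2, hP.hg1, hP.hgj, fun h => ⟨hP.hk0 h, hP.hk h⟩⟩
  obtain ⟨φ, hu, ht, hv, hs, hd, he⟩ := exists_hom_of_eqs hP
    ((relators_iff P (PresentedGroup.mk (↑R : Set (FreeGroup (Fin 6))))).1 fun r hr =>
      PresentedGroup.one_of_mem (List.mem_toFinset.2 hr))
  have hφ : Function.Surjective φ := by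
    rw [← MonoidHom.range_eq_top, eq_top_iff, ← PresentedGroup.closure_range_of, Subgroup.closure_le]
    rintro _ ⟨i, rfl⟩
    fin_cases i
    exacts [hu, ht, hv, hs, hd, he]
  obtain ⟨hfin, hle⟩ := cover_finite_le F
  haveI : Finite (Cfsg.Lie.chevB2.SteinbergCover F) := hfin
  haveI : Finite (PresentedGroup (↑R : Set (FreeGroup (Fin 6)))) := Finite.of_surjective _ hφ
  let ψ : PresentedGroup (↑R : Set (FreeGroup (Fin 6))) →* Matrix.symplecticGroup (Fin 2) F :=
    PresentedGroup.toGroup (f := gens ω) hM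
  have hψof : ∀ i, ψ (PresentedGroup.of i) = gens ω i := fun i => PresentedGroup.toGroup.of _
  have hψ : Function.Surjective ψ := by
    rw [← MonoidHom.range_eq_top]
    have mu : xm 5 (1 : F) ∈ ψ.range := ⟨_, hψof 0⟩
    have mt : (wA : Matrix.symplecticGroup (Fin 2) F) ∈ ψ.range := ⟨_, hψof 1⟩
    have mv : xm 4 (1 : F) ∈ ψ.range := ⟨_, hψof 2⟩
    have ms : (wB : Matrix.symplecticGroup (Fin 2) F) ∈ ψ.range := ⟨_, hψof 3⟩
    have md : tm ω 1 ∈ ψ.range := ⟨_, hψof 4⟩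
    have me : tm 1 ω ∈ ψ.range := ⟨_, hψof 5⟩
    have cj : ∀ {a b}, a ∈ ψ.range → b ∈ ψ.range → a * b * a⁻¹ ∈ ψ.range := fun ha hb =>
      mul_mem (mul_mem ha hb) (inv_mem ha)
    have hx5 : ∀ c, xm 5 c ∈ ψ.range := by
      intro c
      refine forall_of_generated (p := p) (ω : F) hP.gen (fun c => xm 5 c ∈ ψ.range) ?_ mu ?_ ?_ c
      · rw [xm_zero (by norm_num)]; exact one_mem _
      · intro a b ha hb; rw [xm_add (by norm_num)]; exact mul_mem ha hb
      · intro a ha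
        have := cj md ha
        rw [tm_conj _ _ (by norm_num)] at this
        simpa [wt] using this
    have hx4 : ∀ c, xm 4 c ∈ ψ.range := by
      intro c
      refine forall_of_generated (p := p) ((ω : F) ^ 2) hP.gen2 (fun c => xm 4 c ∈ ψ.range) ?_ mv ?_ ?_ c
      · rw [xm_zero (by norm_num)]; exact one_mem _
      · intro a b ha hb; rw [xm_add (by norm_num)]; exact mul_mem ha hb
      · intro a ha
        have := cj me ha
        rw [tm_conj _ _ (by norm_num)] at this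
        simpa [wt, sq, mul_assoc] using this
    have hA : ∀ r, r < 8 → (∀ c, xm r c ∈ ψ.range) → ∀ c, xm (piA r) c ∈ ψ.range := by
      intro r hr h c
      have := cj mt (h (-c))
      rw [wA_conj hr] at this
      simpa [etA] using this
    have hB : ∀ r, r < 8 → (∀ c, xm r c ∈ ψ.range) → ∀ c, xm (piB r) c ∈ ψ.range := by
      intro r hr h c
      have := cj ms (h ((etB r : F) * c))
      rw [wB_conj hr, ← mul_assoc, eta_cast etB_sq, one_mul] at this
      exact this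
    have h2 := hA 5 (by norm_num) hx5
    have h7 := hA 4 (by norm_num) hx4
    have h6 := hB 5 (by norm_num) hx5
    have h3 := hB 4 (by norm_num) hx4
    have h1 := hB 2 (by norm_num) h2
    have h0 := hA 3 (by norm_num) h3
    refine eq_top_of_mem (fun r hr => ?_) fun a => ?_
    · interval_cases r
      exacts [h0, h1, h2, h3, hx4, hx5, h6, h7]
    · obtain ⟨k, hk⟩ := hP.prim a a.ne_zero
      have hk' : ω ^ k = a := Units.ext (by rw [Units.val_pow_eq_pow_val, hk])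
      have := pow_mem md k
      rwa [tm_pow, one_pow, hk'] at this
  have hbij : Function.Bijective ψ := (Nat.bijective_iff_surjective_and_card ψ).2 ⟨hψ,
    le_antisymm ((Nat.card_le_card_of_surjective φ hφ).trans hle) (Nat.card_le_card_of_surjective ψ hψ)⟩
  refine ⟨⟨R, hRcard, ⟨MulEquiv.ofBijective ψ hbij⟩⟩, insert ((g 1) ^ 2) R,
    le_trans (Finset.card_insert_le _ _) (by omega), ?_⟩
  set R' : Set (FreeGroup (Fin 6)) := ↑(insert ((g 1) ^ 2) R) with hR'
  let π : Matrix.symplecticGroup (Fin 2) F →* Cfsg.PSp 2 F := QuotientGroup.mk' _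
  have hz : (wA : Matrix.symplecticGroup (Fin 2) F) ^ 2 ∈ Subgroup.center _ := by
    rw [Subgroup.mem_center_iff]
    intro A
    refine Subtype.ext ?_
    rw [wA_sq, sp_mul_val, sp_mul_val, val_tm_neg_one, mul_neg, neg_mul, mul_one, one_mul]
  have h1 : ∀ r ∈ R', FreeGroup.lift (fun i => π (gens ω i)) r = 1 := by
    intro r hr
    rw [show FreeGroup.lift (fun i => π (gens ω i)) = π.comp (FreeGroup.lift (gens ω)) from
      FreeGroup.ext_hom _ _ fun i => by simp, MonoidHom.comp_apply]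
    simp only [hR', Finset.coe_insert, Set.mem_insert_iff, Finset.mem_coe] at hr
    rcases hr with rfl | hr
    · rw [map_pow, FreeGroup.lift_apply_of]
      exact (QuotientGroup.eq_one_iff _).2 hz
    · rw [hM r hr, map_one]
  let a : PresentedGroup R' →* Cfsg.PSp 2 F := PresentedGroup.toGroup h1
  have h2 : ∀ r ∈ (↑R : Set (FreeGroup (Fin 6))), FreeGroup.lift (fun i => PresentedGroup.of (rels := R') i) r = 1 := by
    intro r hr
    rw [show FreeGroup.lift (fun i => PresentedGroup.of (rels := R') i) = PresentedGroup.mk R' from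
      FreeGroup.ext_hom _ _ fun i => by simp [PresentedGroup.of]]
    exact PresentedGroup.one_of_mem (by simp [hR', Finset.mem_coe.1 hr])
  let e := MulEquiv.ofBijective ψ hbij
  let b : Matrix.symplecticGroup (Fin 2) F →* PresentedGroup R' :=
    (PresentedGroup.toGroup h2).comp e.symm.toMonoidHom
  have hb : ∀ i, b (gens ω i) = PresentedGroup.of i := by
    intro i
    have : e.symm (gens ω i) = PresentedGroup.of i := by
      rw [e.symm_apply_eq]; exact (hψof i).symm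
    simp [b, this]
  have hbz : b ((wA : Matrix.symplecticGroup (Fin 2) F) ^ 2) = 1 := by
    rw [map_pow, show (wA : Matrix.symplecticGroup (Fin 2) F) = gens ω 1 from rfl, hb]
    show PresentedGroup.mk R' ((g 1) ^ 2) = 1
    exact PresentedGroup.one_of_mem (by simp [hR'])
  have hker : Subgroup.center (Matrix.symplecticGroup (Fin 2) F) ≤ b.ker := by
    intro A hA
    rcases CfsgLib.Sp.center_scalar (m := 2) (by norm_num) (fun v _ => (Subgroup.mem_center_iff.1 hA _).symm)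
      with h | h
    · rw [show A = 1 from Subtype.ext h]; exact one_mem _
    · rw [show A = wA ^ 2 from Subtype.ext (by rw [h, wA_sq, val_tm_neg_one]), MonoidHom.mem_ker, hbz]
  let b' : Cfsg.PSp 2 F →* PresentedGroup R' := QuotientGroup.lift _ b hker
  refine ⟨MonoidHom.toMulEquiv a b' ?_ ?_⟩
  · refine PresentedGroup.ext fun i => ?_
    simp [a, b', π, hb]
  · refine QuotientGroup.monoidHom_ext _ (MonoidHom.ext fun A => ?_)
    obtain ⟨y, rfl⟩ := hψ A
    have : ((a.comp b').comp (QuotientGroup.mk' _)).comp ψ = π.comp ψ := PresentedGroup.ext fun i => by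
      simp [a, b', π, hψof, hb]
    exact DFunLike.congr_fun this y

end CfsgLib.Lie.ShortPres.BTwo
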