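import Cfsg.Prelude.Def_ChevB2
import Cfsg.Prelude.Def_SteinbergCover

/-!
# The Steinberg relations of type `B₂` from four of them

Two elements permuting the eight families (with signs) propagate the relations from four base pairs.
-/

set_option autoImplicit false

namespace CfsgLib.Lie.ShortPres.BTwo

open Cfsg.Lie

/-- the commuting of two families -/
def Comm {F H : Type*} [Group H] (X : ℕ → F → H) (r s : ℕ) : Prop := ∀ a b, Commute (X r a) (X s b)

/-- the Steinberg relation of a pair -/
def PairRel {F H : Type*} [Field F] [Group H] (X : ℕ → F → H) (r s : ℕ) : Prop :=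
  ∀ t u : F, (X s u)⁻¹ * (X r t)⁻¹ * X s u * X r t =
    ((chevB2.commWord F r s t u).map fun p => X p.1 p.2).prod

/-- the permutation of the short reflection -/
def piA (r : ℕ) : ℕ := [3, 1, 5, 0, 7, 2, 6, 4].getD r r

/-- the permutation of the long reflection -/
def piB (r : ℕ) : ℕ := [0, 2, 1, 4, 3, 6, 5, 7].getD r r

/-- the signs of the short reflection -/
def etA (_ : ℕ) : ℤ := -1

/-- the signs of the long reflection -/
def etB (r : ℕ) : ℤ := [1, -1, 1, -1, -1, 1, -1, 1].getD r 1

/-- pairs of commuting families -/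
def reachC : ℕ → ℕ → ℕ → Bool
  | 0, r, s => (r == 5 && s == 7) || (r == 4 && s == 7)
  | n + 1, r, s => reachC n r s || reachC n s r || reachC n (piA r) (piA s) || reachC n (piB r) (piB s)

/-- the commutator terms are empty or consist of commuting families -/
def okTerms (r s : ℕ) : Bool :=
  match chevB2.commTerms r s with
  | [] => true
  | [_] => true
  | [a, b] => reachC 5 a.1 b.1
  | _ => false

/-- compatibility of the table with a signed permutation -/
def chkStep (π : ℕ → ℕ) (η : ℕ → ℤ) (r s : ℕ) : Bool :=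
  decide (chevB2.commTerms (π r) (π s) =
    (chevB2.commTerms r s).map fun c =>
      (π c.1, η c.1 * c.2.1 * η r ^ c.2.2.1 * η s ^ c.2.2.2, c.2.2.1, c.2.2.2))

/-- compatibility of the table with the exchange of a pair -/
def chkSwap (r s : ℕ) : Bool :=
  decide (chevB2.commTerms s r =
    (chevB2.commTerms r s).map fun c =>
      (c.1, -c.2.1 * (-1) ^ (c.2.2.1 + c.2.2.2), c.2.2.2, c.2.2.1)) && okTerms r s

/-- pairs with a known relation -/
def reachP : ℕ → ℕ → ℕ → Bool
  | 0, r, s => (r == 5 && s == 4) || (r == 5 && s == 6) || (decide (chevB2.commTerms r s = []) && reachC 5 r s)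
  | n + 1, r, s => reachP n r s || (chkSwap s r && reachP n s r) ||
      (decide (piA (piA r) = r ∧ piA (piA s) = s) && chkStep piA etA (piA r) (piA s) && reachP n (piA r) (piA s)) ||
      (decide (piB (piB r) = r ∧ piB (piB s) = s) && chkStep piB etB (piB r) (piB s) && reachP n (piB r) (piB s))

theorem pi_invol : ∀ r < 8, piA (piA r) = r ∧ piB (piB r) = r := by decide +kernel

theorem piA_invol (r : ℕ) : piA (piA r) = r := by
  rcases Nat.lt_or_ge r 8 with h | h
  · exact (pi_invol r h).1
  · simp [piA, List.getD, h]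

theorem piB_invol (r : ℕ) : piB (piB r) = r := by
  rcases Nat.lt_or_ge r 8 with h | h
  · exact (pi_invol r h).2
  · simp [piB, List.getD, h]

theorem etA_sq (r : ℕ) : etA r * etA r = 1 := by simp [etA]

theorem etB_sq (r : ℕ) : etB r * etB r = 1 := by
  rcases Nat.lt_or_ge r 8 with h | h
  · exact (show ∀ r < 8, etB r * etB r = 1 by decide +kernel) r h
  · simp [etB, List.getD, h]

theorem all_reached : ∀ r < 8, ∀ s < 8, s ≠ r → s ≠ chevB2.neg r → reachP 5 r s = true := by decide +kernel

/-- a group generated by eight families with their symmetries -/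
structure Sym {F H : Type*} [Field F] [Group H] (X : ℕ → F → H) : Prop where
  conjA : ∃ g : H, ∀ r < 8, ∀ c, g * X r c * g⁻¹ = X (piA r) ((etA r : F) * c)
  conjB : ∃ g : H, ∀ r < 8, ∀ c, g * X r c * g⁻¹ = X (piB r) ((etB r : F) * c)
  add : ∀ r < 8, ∀ a b, X r (a + b) = X r a * X r b

section Close

variable {F H : Type*} [Field F] [Group H] {X : ℕ → F → H}

theorem terms_lt : ∀ r < 8, ∀ s < 8, ∀ c ∈ chevB2.commTerms r s, c.1 < 8 := by decide +kernel

theorem pi_lt : ∀ r < 8, piA r < 8 ∧ piB r < 8 := by decide +kernel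

theorem eta_cast {η : ℕ → ℤ} (h : ∀ r, η r * η r = 1) (r : ℕ) : (η r : F) * (η r : F) = 1 := by
  rw [← Int.cast_mul, h, Int.cast_one]

theorem comm_step (g : H) (π : ℕ → ℕ) (η : ℕ → ℤ) (hη : ∀ r, η r * η r = 1)
    (hg : ∀ r < 8, ∀ c, g * X r c * g⁻¹ = X (π r) ((η r : F) * c)) {r s : ℕ} (hr : r < 8) (hs : s < 8)
    (h : Comm X r s) : Comm X (π r) (π s) := by
  intro a b
  have := (Commute.conj_iff g).2 (h ((η r : F) * a) ((η s : F) * b))
  rwa [hg r hr, hg s hs, ← mul_assoc, ← mul_assoc, eta_cast hη, eta_cast hη, one_mul, one_mul] at this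

theorem rel_step (g : H) (π : ℕ → ℕ) (η : ℕ → ℤ) (hη : ∀ r, η r * η r = 1)
    (hg : ∀ r < 8, ∀ c, g * X r c * g⁻¹ = X (π r) ((η r : F) * c)) {r s : ℕ} (hr : r < 8) (hs : s < 8)
    (hchk : chkStep π η r s = true) (h : PairRel X r s) : PairRel X (π r) (π s) := by
  intro t u
  have h' := congrArg (MulAut.conj g) (h ((η r : F) * t) ((η s : F) * u))
  simp only [map_mul, map_inv, map_list_prod, List.map_map, MulAut.conj_apply] at h'
  rw [hg r hr, hg s hs, ← mul_assoc (η r : F), ← mul_assoc (η s : F), eta_cast hη, eta_cast hη, one_mul,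
    one_mul] at h'
  rw [h', ChevalleyDatum.commWord, ChevalleyDatum.commWord, of_decide_eq_true hchk, List.map_map,
    List.map_map, List.map_map]
  refine congrArg List.prod (List.map_congr_left fun c hc => ?_)
  simp only [Function.comp_apply, MulAut.conj_apply]
  rw [hg _ (terms_lt r hr s hs c hc)]
  congr 1
  push_cast
  rw [neg_mul_eq_mul_neg, mul_pow, mul_pow]
  ring

theorem comm_reached (S : Sym X) (h57 : Comm X 5 7) (h47 : Comm X 4 7) :
    ∀ n r s, r < 8 → s < 8 → reachC n r s = true → Comm X r s := by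
  intro n
  induction n with
  | zero =>
    intro r s _ _ h
    simp only [reachC, Bool.or_eq_true, Bool.and_eq_true, beq_iff_eq] at h
    rcases h with ⟨rfl, rfl⟩ | ⟨rfl, rfl⟩
    exacts [h57, h47]
  | succ n ih =>
    intro r s hr hs h
    simp only [reachC, Bool.or_eq_true] at h
    obtain ⟨gA, hA⟩ := S.conjA
    obtain ⟨gB, hB⟩ := S.conjB
    rcases h with ((h | h) | h) | h
    · exact ih r s hr hs h
    · exact fun a b => (ih s r hs hr h b a).symm
    · have := comm_step gA piA etA etA_sq hA (pi_lt r hr).1 (pi_lt s hs).1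
        (ih _ _ (pi_lt r hr).1 (pi_lt s hs).1 h)
      rwa [piA_invol, piA_invol] at this
    · have := comm_step gB piB etB etB_sq hB (pi_lt r hr).2 (pi_lt s hs).2
        (ih _ _ (pi_lt r hr).2 (pi_lt s hs).2 h)
      rwa [piB_invol, piB_invol] at this

theorem X_zero (S : Sym X) {r : ℕ} (hr : r < 8) : X r 0 = 1 := by
  have := S.add r hr 0 0
  rwa [add_zero, left_eq_mul] at this

theorem X_neg (S : Sym X) {r : ℕ} (hr : r < 8) (a : F) : (X r a)⁻¹ = X r (-a) :=
  inv_eq_of_mul_eq_one_right (by rw [← S.add r hr, add_neg_cancel, X_zero S hr])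

theorem rel_swap (S : Sym X) (h57 : Comm X 5 7) (h47 : Comm X 4 7) {r s : ℕ} (hr : r < 8) (hs : s < 8)
    (hchk : chkSwap r s = true) (h : PairRel X r s) : PairRel X s r := by
  intro t u
  rw [chkSwap, Bool.and_eq_true] at hchk
  obtain ⟨h1, h2⟩ := hchk
  have h' := congrArg (·⁻¹) (h u t)
  simp only [_root_.mul_inv_rev, inv_inv, ← mul_assoc] at h'
  rw [h', ChevalleyDatum.commWord, ChevalleyDatum.commWord, of_decide_eq_true h1, List.map_map, List.map_map,
    List.map_map]
  have hval : ∀ c : ℕ × ℤ × ℕ × ℕ, c.1 < 8 →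
      (X c.1 ((c.2.1 : F) * (-u) ^ c.2.2.1 * t ^ c.2.2.2))⁻¹ =
        X c.1 (((-c.2.1 * (-1) ^ (c.2.2.1 + c.2.2.2) : ℤ) : F) * (-t) ^ c.2.2.2 * u ^ c.2.2.1) := by
    intro c hc
    rw [X_neg S hc]
    congr 1
    push_cast
    have e : ((-1 : F) ^ c.2.2.2) * (-1 : F) ^ c.2.2.2 = 1 := by rw [← mul_pow]; simp
    rw [neg_pow u, neg_pow t, pow_add]
    linear_combination ((c.2.1 : F) * (-1) ^ c.2.2.1 * u ^ c.2.2.1 * t ^ c.2.2.2) * e
  unfold okTerms at h2
  have hlt := terms_lt r hr s hs
  match hT : chevB2.commTerms r s, h2, hlt with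
  | [], _, _ => simp
  | [a], _, hlt => simp [hval a (hlt a (by simp))]
  | [a, b], h2, hlt =>
    simp only [List.map_cons, List.map_nil, List.prod_cons, List.prod_nil, mul_one, Function.comp_apply,
      _root_.mul_inv_rev, hval a (hlt a (by simp)), hval b (hlt b (by simp))]
    exact (comm_reached S h57 h47 5 a.1 b.1 (hlt a (by simp)) (hlt b (by simp)) h2 _ _).symm.eq
  | _ :: _ :: _ :: _, h2, _ => exact absurd h2 (by simp)

theorem pairRel_of_base (S : Sym X) (h57 : Comm X 5 7) (h47 : Comm X 4 7) (h54 : PairRel X 5 4)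
    (h56 : PairRel X 5 6) {r s : ℕ} (hr : r < 8) (hs : s < 8) (hne : s ≠ r) (hneg : s ≠ chevB2.neg r) :
    PairRel X r s := by
  suffices key : ∀ n r s, r < 8 → s < 8 → reachP n r s = true → PairRel X r s from
    key 5 r s hr hs (all_reached r hr s hs hne hneg)
  intro n
  induction n with
  | zero =>
    intro r s hr hs h
    simp only [reachP, Bool.or_eq_true, Bool.and_eq_true, beq_iff_eq, decide_eq_true_eq] at h
    rcases h with (⟨rfl, rfl⟩ | ⟨rfl, rfl⟩) | ⟨he, hc⟩
    · exact h54
    · exact h56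
    · intro t u
      have := comm_reached S h57 h47 5 r s hr hs hc t u
      rw [ChevalleyDatum.commWord, he]
      simp only [List.map_nil, List.prod_nil]
      rw [mul_assoc _ (X s u), ← this.eq]
      group
  | succ n ih =>
    intro r s hr hs h
    simp only [reachP, Bool.or_eq_true, Bool.and_eq_true, decide_eq_true_eq] at h
    obtain ⟨gA, hA⟩ := S.conjA
    obtain ⟨gB, hB⟩ := S.conjB
    rcases h with ((h | ⟨h1, h2⟩) | ⟨⟨-, h1⟩, h2⟩) | ⟨⟨-, h1⟩, h2⟩
    · exact ih r s hr hs h
    · exact rel_swap S h57 h47 hs hr h1 (ih s r hs hr h2)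
    · have := rel_step gA piA etA etA_sq hA (pi_lt r hr).1 (pi_lt s hs).1 h1
        (ih _ _ (pi_lt r hr).1 (pi_lt s hs).1 h2)
      rwa [piA_invol, piA_invol] at this
    · have := rel_step gB piB etB etB_sq hB (pi_lt r hr).2 (pi_lt s hs).2 h1
        (ih _ _ (pi_lt r hr).2 (pi_lt s hs).2 h2)
      rwa [piB_invol, piB_invol] at this

/-- the map from the cover -/
theorem exists_cover_hom (S : Sym X) (h57 : Comm X 5 7) (h47 : Comm X 4 7) (h54 : PairRel X 5 4)
    (h56 : PairRel X 5 6) :
    ∃ φ : chevB2.SteinbergCover F →* H, ∀ (r : ℕ), r < 8 → ∀ c, φ (chevB2.scGen F r c) = X r c := by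
  let f : Fin chevB2.nroots × F → H := fun x => X x.1.val x.2
  have hst : ∀ r < 8, ∀ c, FreeGroup.lift f (chevB2.stX r c) = X r c := fun r hr c => by
    rw [ChevalleyDatum.stX, dif_pos (show r < chevB2.nroots from hr)]
    exact FreeGroup.lift_apply_of
  have hrels : ∀ w ∈ chevB2.steinbergRelsAB F, FreeGroup.lift f w = 1 := by
    rintro w (⟨r, a, b, hr, rfl⟩ | ⟨r, s, t, u, hr, hs, n1, n2, rfl⟩)
    · rw [map_mul, map_mul, map_inv, hst r hr, hst r hr, hst r hr, S.add r hr, mul_inv_cancel]
    · simp only [map_mul, map_inv, hst r hr, hst s hs]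
      rw [mul_inv_eq_one, pairRel_of_base S h57 h47 h54 h56 hr hs n1 n2, ChevalleyDatum.stWord,
        ChevalleyDatum.commWord, map_list_prod, List.map_map, List.map_map, List.map_map]
      refine congrArg List.prod (List.map_congr_left fun c hc => ?_)
      simp only [Function.comp_apply]
      rw [hst _ (terms_lt r hr s hs c hc)]
  refine ⟨PresentedGroup.toGroup hrels, fun r hr c => ?_⟩
  exact hst r hr c

end Close

end CfsgLib.Lie.ShortPres.BTwo
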