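import Cfsg.Agent.Lib.Lie.ShortPres.Torus
import Cfsg.Agent.Lib.Lie.ShortPres.B2Pairs

/-!
# Twenty-seven equations that give a map from the Steinberg cover of type `B₂`
-/

set_option autoImplicit false

namespace CfsgLib.Lie.ShortPres.BTwo

open Polynomial Matrix Cfsg.Lie CfsgLib.Lie.SL2Rel

/-- the exponents and polynomials in the equations -/
structure Prm (p : ℕ) where
  m : ℕ
  k : ℕ
  k0 : ℕ
  big : Bool
  μ : (ZMod p)[X]
  μ' : (ZMod p)[X]
  gi : (ZMod p)[X]
  g2 : (ZMod p)[X]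
  g1 : (ZMod p)[X]
  gj : (ZMod p)[X]

/-- the equations -/
noncomputable def eqs {G : Type*} [Group G] {p : ℕ} (P : Prm p) (u t v s d e : G) : List (G × G) :=
  [(d * e, e * d), (t * d * t⁻¹, e), (t * e * t⁻¹, d), (s * d * s⁻¹, d), (s * e * s⁻¹, e⁻¹),
    (u ^ p, 1), (u * conjPow u d 1, conjPow u d 1 * u),
    (if P.big then d ^ P.k0 * u * (d ^ P.k0)⁻¹ else 1, if P.big then u * conjPow u d 1 else 1),
    (pw u d P.μ, 1), (e * u * e⁻¹, pw u d P.gi), (t, u * (t * u * t⁻¹) * u),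
    (v ^ p, 1), (v * conjPow v (e ^ P.m) 1, conjPow v (e ^ P.m) 1 * v),
    (if P.big then e ^ P.k * v * (e ^ P.k)⁻¹ else 1, if P.big then v * conjPow v (e ^ P.m) 1 else 1),
    (pw v (e ^ P.m) P.μ', 1), (d * v * d⁻¹, v), (e * v * e⁻¹, pw v (e ^ P.m) P.g2),
    (s, v * (s * v * s⁻¹) * v),
    (e, pw v (e ^ P.m) P.g1 * (s * pw v (e ^ P.m) P.gj * s⁻¹) * pw v (e ^ P.m) P.g1 * s⁻¹),
    (t * (s * u * s⁻¹) * t⁻¹, s * u⁻¹ * s⁻¹),
    (t * (s * (t * u⁻¹ * t⁻¹) * s⁻¹) * t⁻¹, s * (t * u * t⁻¹) * s⁻¹),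
    (s * (t * v⁻¹ * t⁻¹) * s⁻¹, t * v⁻¹ * t⁻¹),
    (s * (t * (s * v * s⁻¹) * t⁻¹) * s⁻¹, t * (s * v * s⁻¹) * t⁻¹),
    (u * (t * v⁻¹ * t⁻¹), t * v⁻¹ * t⁻¹ * u), (v * (t * v⁻¹ * t⁻¹), t * v⁻¹ * t⁻¹ * v),
    (v⁻¹ * u⁻¹ * v * u, s * u * s⁻¹ * (t * v * t⁻¹)),
    ((s * u * s⁻¹)⁻¹ * u⁻¹ * (s * u * s⁻¹) * u, t * v ^ 2 * t⁻¹)]

theorem map_eqs {G H : Type*} [Group G] [Group H] {p : ℕ} (P : Prm p) (φ : G →* H) (u t v s d e : G) :
    eqs P (φ u) (φ t) (φ v) (φ s) (φ d) (φ e) = (eqs P u t v s d e).map (Prod.map φ φ) := by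
  cases hb : P.big <;>
    simp [eqs, hb, map_mul, map_inv, map_pow, map_pw, conjPow]

section Fams

variable {F H : Type*} [Field F] [Group H]

/-- the eight families -/
def fam (x z : F → H) (t s : H) : ℕ → F → H
  | 0, c => t * (s * z c * s⁻¹) * t⁻¹
  | 1, c => s * (t * x (-c) * t⁻¹) * s⁻¹
  | 2, c => t * x (-c) * t⁻¹
  | 3, c => s * z (-c) * s⁻¹
  | 4, c => z c
  | 5, c => x c
  | 6, c => s * x c * s⁻¹
  | 7, c => t * z (-c) * t⁻¹
  | _, _ => 1

theorem conj_mul' (g a b : H) : g * (a * b) * g⁻¹ = (g * a * g⁻¹) * (g * b * g⁻¹) := by group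

theorem fam_add (x z : F → H) (t s : H) (hx : ∀ b c, x (b + c) = x b * x c) (hz : ∀ b c, z (b + c) = z b * z c)
    {r : ℕ} (hr : r < 8) (a b : F) : fam x z t s r (a + b) = fam x z t s r a * fam x z t s r b := by
  interval_cases r <;> simp only [fam, neg_add, hx, hz, conj_mul']

theorem act_pow {g : H} {Y : F → H} {w : F} (h : Act g Y w) (n : ℕ) : Act (g ^ n) Y (w ^ n) := by
  induction n with
  | zero => intro b; simp
  | succ n ih => rw [pow_succ, pow_succ]; exact ih.mul h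

theorem conj_extend {p : ℕ} [Fact p.Prime] [Algebra (ZMod p) F] {t g : H} {Y : F → H} {w σ : F}
    (hY : ∀ a b, Y (a + b) = Y a * Y b) (hg : Act g Y w) (htg : t * g * t⁻¹ = g)
    (hgen : ∀ β : F, ∃ f : (ZMod p)[X], aeval w f = β) (h1 : t * Y 1 * t⁻¹ = Y σ) (c : F) :
    t * Y c * t⁻¹ = Y (σ * c) := by
  refine forall_of_generated (p := p) w hgen (fun c => t * Y c * t⁻¹ = Y (σ * c)) ?_ ?_ ?_ ?_ c
  · have h0 : Y 0 = 1 := by
      have := hY 0 0
      rwa [add_zero, left_eq_mul] at this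
    simp [h0]
  · rwa [mul_one]
  · intro b c hb hc
    rw [hY, conj_mul', hb, hc, mul_add, hY]
  · intro b hb
    calc t * Y (w * b) * t⁻¹ = (t * g * t⁻¹) * (t * Y b * t⁻¹) * (t * g * t⁻¹)⁻¹ := by rw [← hg]; group
      _ = Y (σ * (w * b)) := by rw [htg, hb, hg, mul_left_comm]

end Fams

section Main

variable {F H : Type*} [Field F] [Fintype F] [Group H] {p : ℕ} [hp : Fact p.Prime] [Algebra (ZMod p) F]

/-- the properties of the parameters -/
structure Prm.Ok (P : Prm p) (ω : F) : Prop where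
  ne_zero : ω ≠ 0
  prim : ∀ s : F, s ≠ 0 → ∃ n : ℕ, ω ^ n = s
  gen : ∀ β : F, ∃ f : (ZMod p)[X], aeval ω f = β
  gen2 : ∀ β : F, ∃ f : (ZMod p)[X], aeval (ω ^ 2) f = β
  genm : ∀ β : F, ∃ f : (ZMod p)[X], aeval ((ω ^ P.m) ^ 2) f = β
  hμ : P.μ = minpoly (ZMod p) ω
  hμ' : P.μ' = minpoly (ZMod p) ((ω ^ P.m) ^ 2)
  hgi : aeval ω P.gi = ω⁻¹
  hg2 : aeval ((ω ^ P.m) ^ 2) P.g2 = ω ^ 2
  hg1 : aeval ((ω ^ P.m) ^ 2) P.g1 = ω
  hgj : aeval ((ω ^ P.m) ^ 2) P.gj = ω⁻¹
  small : P.big = false → P.μ.natDegree ≤ 2 ∧ P.μ'.natDegree ≤ 2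
  hk0 : P.big = true → ω ^ P.k0 = 1 + ω
  hk : P.big = true → (ω ^ P.k) ^ 2 = 1 + (ω ^ P.m) ^ 2

theorem exists_hom_of_eqs {P : Prm p} {ω : F} (hP : P.Ok ω) {u t v s d e : H}
    (h : ∀ x ∈ eqs P u t v s d e, x.1 = x.2) :
    ∃ φ : chevB2.SteinbergCover F →* H, u ∈ φ.range ∧ t ∈ φ.range ∧ v ∈ φ.range ∧ s ∈ φ.range ∧
      d ∈ φ.range ∧ e ∈ φ.range := by
  simp only [eqs, List.forall_mem_cons, List.not_mem_nil, IsEmpty.forall_iff, implies_true, and_true] at h
  obtain ⟨hde, htd, hte, hsd, hse, hup, hu1, hu2, huμ, heu, htu, hvp, hv1, hv2, hvμ, hdv, hev, hsv, hebase,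
    h6, h1', h7, h0', h57, h47, h54, h56⟩ := h
  have hω0 := hP.ne_zero
  have hde' : Commute d e := hde
  have hint : ∀ a : F, IsIntegral (ZMod p) a := fun a => Algebra.IsIntegral.isIntegral a
  -- the short family
  have hcu : ∀ i j, Commute (conjPow u d i) (conjPow u d j) := by
    cases hb : P.big with
    | true =>
      simp only [hb, if_true] at hu2
      exact commute_conjPow (Commute.pow_right (Commute.refl d) P.k0) hu1 hu2
    | false =>
      exact commute_conjPow_of_small hu1 (hP.hμ ▸ minpoly.monic (hint _))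
        (hP.hμ ▸ minpoly.natDegree_pos (hint _)) (hP.small hb).1 huμ
  obtain ⟨x, hxadd, hx1, hxd, hxpw⟩ := exists_param hup hcu ω hP.gen (hP.hμ ▸ huμ)
  have adx : Act d x ω := fun b => (hxd b).symm
  have aex : Act e x ω⁻¹ := fun b => (param_equivariant hde' x hxadd ω ω⁻¹ hP.gen hxd
    (by rw [hx1, heu, hxpw, hP.hgi]) b).symm
  have htinv : t⁻¹ * d * t = e := by rw [← hte]; group
  obtain ⟨φa, hat, hah, haup, -⟩ := exists_hom_torus u t d ω hω0 hP.prim x hxadd hx1 adx (htinv ▸ aex) htu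
  -- the long family
  have hcm : ∀ n, Commute (e ^ P.m) (e ^ n) := fun n => Commute.pow_pow (Commute.refl e) _ _
  have hcv : ∀ i j, Commute (conjPow v (e ^ P.m) i) (conjPow v (e ^ P.m) j) := by
    cases hb : P.big with
    | true =>
      simp only [hb, if_true] at hv2
      exact commute_conjPow (hcm P.k) hv1 hv2
    | false =>
      exact commute_conjPow_of_small hv1 (hP.hμ' ▸ minpoly.monic (hint _))
        (hP.hμ' ▸ minpoly.natDegree_pos (hint _)) (hP.small hb).2 hvμ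
  obtain ⟨z, hzadd, hz1, hzd, hzpw⟩ := exists_param hvp hcv ((ω ^ P.m) ^ 2) hP.genm (hP.hμ' ▸ hvμ)
  have aez : Act e z (ω ^ 2) := fun b => (param_equivariant ((Commute.refl e).pow_left P.m) z hzadd _ _
    hP.genm hzd (by rw [hz1, hev, hzpw, hP.hg2]) b).symm
  have adz : Act d z 1 := fun b => (param_equivariant ((hde'.pow_right P.m).symm) z hzadd _ (1 : F)
    hP.genm hzd (by rw [hz1, hdv]) b).symm
  have hbase : e = z ω * (s * z ω⁻¹ * s⁻¹) * z ω * s⁻¹ := by
    conv_lhs => rw [hebase, hzpw, hzpw, hP.hg1, hP.hgj]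
  obtain ⟨φb, -, hbs, hbh, hbup⟩ := exists_hom v s e ω hω0 hP.prim z hzadd hz1 (fun b => (aez b).symm) hse hsv
    (Or.inl hbase)
  -- the squares of the Weyl elements
  have hne : (-1 : F) ≠ 0 := neg_ne_zero.2 one_ne_zero
  have hwm2 : (wm (1 : F)) ^ 2 = hm (-1) := by
    apply Subtype.ext
    rw [sq, val_mul', val_wm one_ne_zero, val_hm hne]
    ext i j
    fin_cases i <;> fin_cases j <;> simp [Matrix.mul_apply, Fin.sum_univ_two]
  obtain ⟨j, hj⟩ := hP.prim (-1) hne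
  have hdt : d * t * d⁻¹ * t⁻¹ = d * e⁻¹ := by
    rw [← htd]; group
  have ht2 : t ^ 2 = (d * e⁻¹) ^ j := by
    rw [← hdt, ← hah, ← map_pow, hm_pow hω0, hj, ← hwm2, map_pow, hat]
  have hs2 : s ^ 2 = e ^ j := by
    rw [← hbh, ← map_pow, hm_pow hω0, hj, ← hwm2, map_pow, hbs]
  have ht2x : ∀ c, t * (t * x c * t⁻¹) * t⁻¹ = x c := by
    intro c
    rw [show t * (t * x c * t⁻¹) * t⁻¹ = t ^ 2 * x c * (t ^ 2)⁻¹ by rw [sq]; group, ← hat, ← map_pow, hwm2,
      ← haup, ← map_inv, ← map_mul, ← map_mul, hm_conj hne]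
    norm_num
  have hs2z : ∀ c, s * (s * z c * s⁻¹) * s⁻¹ = z c := by
    intro c
    rw [show s * (s * z c * s⁻¹) * s⁻¹ = s ^ 2 * z c * (s ^ 2)⁻¹ by rw [sq]; group, hs2, act_pow aez j,
      ← pow_mul, mul_comm 2 j, pow_mul, hj]
    norm_num
  have hei : Act e⁻¹ z (ω ^ 2)⁻¹ := aez.inv (pow_ne_zero _ hω0)
  have ht2z : ∀ c, t * (t * z c * t⁻¹) * t⁻¹ = z c := by
    intro c
    rw [show t * (t * z c * t⁻¹) * t⁻¹ = t ^ 2 * z c * (t ^ 2)⁻¹ by rw [sq]; group, ht2,
      act_pow (adz.mul hei) j, one_mul, inv_pow, ← pow_mul, mul_comm 2 j, pow_mul, hj]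
    norm_num
  have hs2x : ∀ c, s * (s * x c * s⁻¹) * s⁻¹ = x (-c) := by
    intro c
    rw [show s * (s * x c * s⁻¹) * s⁻¹ = s ^ 2 * x c * (s ^ 2)⁻¹ by rw [sq]; group, hs2, act_pow aex j,
      inv_pow, hj]
    simp
  set X := fam x z t s with hX
  have hadd : ∀ r < 8, ∀ a b, X r (a + b) = X r a * X r b := fun r hr => fam_add x z t s hxadd hzadd hr
  -- torus weights
  have hse' : s * e⁻¹ * s⁻¹ = e := by
    calc s * e⁻¹ * s⁻¹ = (s * e * s⁻¹)⁻¹ := by group
      _ = e := by rw [hse, inv_inv]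
  have a6d : Act d (X 6) ω := by
    have := adx.conj s
    rwa [hsd] at this
  have a6e : Act e (X 6) ω := by
    have := (aex.inv (inv_ne_zero hω0)).conj s
    rwa [hse', inv_inv] at this
  have a7d : Act d (X 7) (ω ^ 2) := by
    have := aez.comp_neg.conj t
    rwa [hte] at this
  have a7e : Act e (X 7) 1 := by
    have := adz.comp_neg.conj t
    rwa [htd] at this
  have a2d : Act d (X 2) ω⁻¹ := by
    have := aex.comp_neg.conj t
    rwa [hte] at this
  have a2e : Act e (X 2) ω := by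
    have := adx.comp_neg.conj t
    rwa [htd] at this
  have a1d : Act d (X 1) ω⁻¹ := by
    have := a2d.conj s
    rwa [hsd] at this
  have a1e : Act e (X 1) ω⁻¹ := by
    have := (a2e.inv hω0).conj s
    rwa [hse'] at this
  have a3d : Act d (X 3) 1 := by
    have := adz.comp_neg.conj s
    rwa [hsd] at this
  have a3e : Act e (X 3) (ω ^ 2)⁻¹ := by
    have := hei.comp_neg.conj s
    rwa [hse'] at this
  have a0d : Act d (X 0) (ω ^ 2)⁻¹ := by
    have := a3e.comp_neg.conj t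
    rw [hte] at this
    intro b
    have h2 := this b
    simp only [hX, fam, neg_neg] at h2 ⊢
    exact h2
  have ht2X3 : ∀ c, t * (t * X 3 c * t⁻¹) * t⁻¹ = X 3 c := by
    intro c
    rw [show t * (t * X 3 c * t⁻¹) * t⁻¹ = t ^ 2 * X 3 c * (t ^ 2)⁻¹ by rw [sq]; group, ht2,
      act_pow (a3d.mul (a3e.inv (inv_ne_zero (pow_ne_zero _ hω0)))) j, inv_inv, one_mul, ← pow_mul,
      mul_comm 2 j, pow_mul, hj]
    norm_num
  have hs2X2 : ∀ c, s * (s * X 2 c * s⁻¹) * s⁻¹ = X 2 (-c) := by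
    intro c
    rw [show s * (s * X 2 c * s⁻¹) * s⁻¹ = s ^ 2 * X 2 c * (s ^ 2)⁻¹ by rw [sq]; group, hs2, act_pow a2e j,
      hj, neg_one_mul]
  -- the four extended relations
  have hgde : t * (d * e) * t⁻¹ = d * e := by rw [conj_mul', htd, hte, hde]
  have hgde' : t * (d * e)⁻¹ * t⁻¹ = (d * e)⁻¹ := by
    rw [show t * (d * e)⁻¹ * t⁻¹ = (t * (d * e) * t⁻¹)⁻¹ by group, hgde]
  have hxn : ∀ b, x (-b) = (x b)⁻¹ := fun b => by
    have h0 : x 0 = 1 := by
      have := hxadd 0 0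
      rwa [add_zero, left_eq_mul] at this
    exact eq_inv_of_mul_eq_one_left (by rw [← hxadd, neg_add_cancel, h0])
  have hzn : ∀ b, z (-b) = (z b)⁻¹ := fun b => by
    have h0 : z 0 = 1 := by
      have := hzadd 0 0
      rwa [add_zero, left_eq_mul] at this
    exact eq_inv_of_mul_eq_one_left (by rw [← hzadd, neg_add_cancel, h0])
  have r6 : ∀ c, t * X 6 c * t⁻¹ = X 6 (-c) := by
    intro c
    rw [← neg_one_mul c]
    refine conj_extend (p := p) (hadd 6 (by norm_num)) (a6d.mul a6e) hgde (by rw [← sq]; exact hP.gen2) ?_ c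
    simp only [hX, fam, hx1, hxn]
    exact h6
  have r1 : ∀ c, t * X 1 c * t⁻¹ = X 1 (-c) := by
    intro c
    rw [← neg_one_mul c]
    refine conj_extend (p := p) (hadd 1 (by norm_num))
      ((a1d.mul a1e).inv (mul_ne_zero (inv_ne_zero hω0) (inv_ne_zero hω0))) hgde' ?_ ?_ c
    · rw [show (ω⁻¹ * ω⁻¹)⁻¹ = ω ^ 2 by rw [mul_inv, inv_inv, sq]]; exact hP.gen2
    · simp only [hX, fam, neg_neg, hxn, hx1]
      exact h1'
  have r7 : ∀ c, s * X 7 c * s⁻¹ = X 7 c := by
    intro c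
    conv_rhs => rw [← one_mul c]
    refine conj_extend (p := p) (hadd 7 (by norm_num)) a7d hsd hP.gen2 ?_ c
    simp only [hX, fam, hz1, hzn]
    exact h7
  have r0 : ∀ c, s * X 0 c * s⁻¹ = X 0 c := by
    intro c
    conv_rhs => rw [← one_mul c]
    refine conj_extend (p := p) (hadd 0 (by norm_num)) (a0d.inv (inv_ne_zero (pow_ne_zero _ hω0)))
      (by rw [show s * d⁻¹ * s⁻¹ = (s * d * s⁻¹)⁻¹ by group, hsd]) (by rw [inv_inv]; exact hP.gen2) ?_ c
    simp only [hX, fam, hz1]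
    exact h0'
  have S : Sym X := by
    refine ⟨⟨t, fun r hr c => ?_⟩, ⟨s, fun r hr c => ?_⟩, hadd⟩
    · simp only [etA, Int.cast_neg, Int.cast_one, neg_one_mul]
      interval_cases r
      · show t * X 0 c * t⁻¹ = X 3 (-c)
        rw [← ht2X3 (-c)]; simp [hX, fam]
      · exact r1 c
      · show t * X 2 c * t⁻¹ = X 5 (-c)
        exact ht2x _
      · show t * X 3 c * t⁻¹ = X 0 (-c)
        simp [hX, fam]
      · show t * X 4 c * t⁻¹ = X 7 (-c)
        simp [hX, fam]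
      · show t * X 5 c * t⁻¹ = X 2 (-c)
        simp [hX, fam]
      · exact r6 c
      · show t * X 7 c * t⁻¹ = X 4 (-c)
        exact ht2z _
    · interval_cases r <;>
        simp only [piB, etB, List.getD_cons_succ, List.getD_cons_zero, Int.cast_neg, Int.cast_one,
          neg_one_mul, one_mul]
      · exact r0 c
      · exact hs2X2 c
      · rfl
      · exact hs2z _
      · simp [hX, fam]
      · rfl
      · exact hs2x c
      · exact r7 c
  -- the base relations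
  have hd0 : ∀ r < 8, X r 0 = 1 := fun r hr => X_zero S hr
  have step : ∀ (P : F → Prop), (∀ a, P a → P (ω * a)) → P 1 → ∀ a, a ≠ 0 → P a := by
    intro Q hs h1 a ha
    obtain ⟨n, rfl⟩ := hP.prim a ha
    clear ha
    induction n with
    | zero => simpa using h1
    | succ n ih => rw [pow_succ']; exact hs _ ih
  have c57 : Comm X 5 7 := by
    have h1 : ∀ b, Commute (X 5 1) (X 7 b) := by
      refine forall_of_generated (p := p) (ω ^ 2) hP.gen2 (fun b => Commute (X 5 1) (X 7 b)) ?_ ?_ ?_ ?_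
      · rw [hd0 7 (by norm_num)]; exact Commute.one_right _
      · simp only [hX, fam, hx1, hzn, hz1]
        exact h57
      · intro b c hb hc
        rw [hadd 7 (by norm_num)]; exact hb.mul_right hc
      · intro b hb
        have := (Commute.conj_iff (d * e)).2 hb
        rwa [show X 5 = x from rfl, adx.mul aex, a7d.mul a7e, mul_inv_cancel₀ hω0, mul_one, mul_one] at this
    intro a
    rcases eq_or_ne a 0 with rfl | ha
    · intro b; rw [hd0 5 (by norm_num)]; exact Commute.one_left _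
    refine step (fun a => ∀ b, Commute (X 5 a) (X 7 b)) (fun a hab b => ?_) h1 a ha
    have := (Commute.conj_iff d).2 (hab ((ω ^ 2)⁻¹ * b))
    rwa [show X 5 = x from rfl, adx, a7d, mul_inv_cancel_left₀ (pow_ne_zero _ hω0)] at this
  have c47 : Comm X 4 7 := by
    have h1 : ∀ b, Commute (X 4 1) (X 7 b) := by
      refine forall_of_generated (p := p) (ω ^ 2) hP.gen2 (fun b => Commute (X 4 1) (X 7 b)) ?_ ?_ ?_ ?_
      · rw [hd0 7 (by norm_num)]; exact Commute.one_right _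
      · simp only [hX, fam, hzn, hz1]
        exact h47
      · intro b c hb hc
        rw [hadd 7 (by norm_num)]; exact hb.mul_right hc
      · intro b hb
        have := (Commute.conj_iff d).2 hb
        rwa [show X 4 = z from rfl, adz, a7d, one_mul] at this
    refine forall_of_generated (p := p) (ω ^ 2) hP.gen2 (fun a => ∀ b, Commute (X 4 a) (X 7 b)) ?_ h1 ?_ ?_
    · intro b; rw [hd0 4 (by norm_num)]; exact Commute.one_left _
    · intro a c ha hc b
      rw [hadd 4 (by norm_num)]; exact (ha b).mul_left (hc b)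
    · intro a ha b
      have := (Commute.conj_iff e).2 (ha b)
      rwa [show X 4 = z from rfl, aez, a7e, one_mul] at this
  have c46 : Comm X 4 6 := comm_reached S c57 c47 5 4 6 (by norm_num) (by norm_num) (by decide +kernel)
  have c67 : Comm X 6 7 := comm_reached S c57 c47 5 6 7 (by norm_num) (by norm_num) (by decide +kernel)
  have conjq : ∀ g p q : H, g * (q⁻¹ * p⁻¹ * q * p) * g⁻¹ =
      (g * q * g⁻¹)⁻¹ * (g * p * g⁻¹)⁻¹ * (g * q * g⁻¹) * (g * p * g⁻¹) := fun g p q => by group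
  have p54 : PairRel X 5 4 := by
    suffices h : ∀ a b : F, (X 4 b)⁻¹ * (X 5 a)⁻¹ * X 4 b * X 5 a = X 6 (a * b) * X 7 (-(a ^ 2 * b)) by
      intro a b
      rw [h, ChevalleyDatum.commWord, show chevB2.commTerms 5 4 = [(6, -1, 1, 1), (7, -1, 2, 1)] by decide +kernel]
      simp only [List.map_cons, List.map_nil, List.prod_cons, List.prod_nil, mul_one, Int.cast_neg,
        Int.cast_one]
      congr 2 <;> ring
    have h1 : ∀ b : F, (X 4 b)⁻¹ * (X 5 1)⁻¹ * X 4 b * X 5 1 = X 6 b * X 7 (-b) := by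
      refine forall_of_generated (p := p) (ω ^ 2) hP.gen2
        (fun b => (X 4 b)⁻¹ * (X 5 1)⁻¹ * X 4 b * X 5 1 = X 6 b * X 7 (-b)) ?_ ?_ ?_ ?_
      · simp [hd0 4, hd0 6, hd0 7]
      · simp only [hX, fam, hx1, hz1, neg_neg]
        exact h54
      · intro b c hb hc
        rw [hadd 4 (by norm_num), neg_add, hadd 6 (by norm_num), hadd 7 (by norm_num)]
        calc (X 4 b * X 4 c)⁻¹ * (X 5 1)⁻¹ * (X 4 b * X 4 c) * X 5 1
            = (X 4 c)⁻¹ * ((X 4 b)⁻¹ * (X 5 1)⁻¹ * X 4 b * X 5 1) * X 4 c *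
                ((X 4 c)⁻¹ * (X 5 1)⁻¹ * X 4 c * X 5 1) := by group
          _ = X 6 b * X 7 (-b) * (X 6 c * X 7 (-c)) := by
              rw [hb, hc]
              congr 1
              have e2 : Commute (X 4 c) (X 6 b * X 7 (-b)) := (c46 c b).mul_right (c47 c (-b))
              rw [mul_assoc, ← e2.eq, inv_mul_cancel_left]
          _ = X 6 b * X 6 c * (X 7 (-b) * X 7 (-c)) := (c67 c (-b)).symm.mul_mul_mul_comm _ _
      · intro b hb
        have h' := congrArg (fun g => (d * e) * g * (d * e)⁻¹) hb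
        simp only [conjq, conj_mul'] at h'
        rw [show X 4 = z from rfl, show X 5 = x from rfl, adz.mul aez, adx.mul aex, a6d.mul a6e,
          a7d.mul a7e] at h'
        rw [show X 4 = z from rfl, show X 5 = x from rfl]
        simpa [hω0, ← sq, mul_comm, mul_left_comm, mul_assoc] using h'
    intro a
    rcases eq_or_ne a 0 with rfl | ha
    · intro b; simp [hd0 5, hd0 6, hd0 7]
    refine step (fun a => ∀ b, (X 4 b)⁻¹ * (X 5 a)⁻¹ * X 4 b * X 5 a = X 6 (a * b) * X 7 (-(a ^ 2 * b)))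
      (fun a hab b => ?_) (fun b => by simpa using h1 b) a ha
    have h' := congrArg (fun g => d * g * d⁻¹) (hab b)
    simp only [conjq, conj_mul'] at h'
    rw [show X 4 = z from rfl, show X 5 = x from rfl, adz, adx, a6d, a7d, one_mul] at h'
    rw [show X 4 = z from rfl, show X 5 = x from rfl, h']
    congr 2 <;> ring
  have p56 : PairRel X 5 6 := by
    suffices h : ∀ a b : F, (X 6 b)⁻¹ * (X 5 a)⁻¹ * X 6 b * X 5 a = X 7 (-2 * (a * b)) by
      intro a b
      rw [h, ChevalleyDatum.commWord, show chevB2.commTerms 5 6 = [(7, 2, 1, 1)] by decide +kernel]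
      simp only [List.map_cons, List.map_nil, List.prod_cons, List.prod_nil, mul_one]
      congr 1
      push_cast
      ring
    have h1 : ∀ b : F, (X 6 b)⁻¹ * (X 5 1)⁻¹ * X 6 b * X 5 1 = X 7 (-2 * b) := by
      refine forall_of_generated (p := p) (ω ^ 2) hP.gen2
        (fun b => (X 6 b)⁻¹ * (X 5 1)⁻¹ * X 6 b * X 5 1 = X 7 (-2 * b)) ?_ ?_ ?_ ?_
      · simp [hd0 6, hd0 7]
      · simp only [hX, fam, hx1, mul_one, neg_neg]
        rw [show (2 : F) = 1 + 1 by norm_num, hzadd, hz1, ← sq]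
        exact h56
      · intro b c hb hc
        rw [hadd 6 (by norm_num), mul_add, hadd 7 (by norm_num)]
        calc (X 6 b * X 6 c)⁻¹ * (X 5 1)⁻¹ * (X 6 b * X 6 c) * X 5 1
            = (X 6 c)⁻¹ * ((X 6 b)⁻¹ * (X 5 1)⁻¹ * X 6 b * X 5 1) * X 6 c *
                ((X 6 c)⁻¹ * (X 5 1)⁻¹ * X 6 c * X 5 1) := by group
          _ = X 7 (-2 * b) * X 7 (-2 * c) := by
              rw [hb, hc]
              congr 1
              rw [mul_assoc, ← (c67 c (-2 * b)).eq, inv_mul_cancel_left]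
      · intro b hb
        have h' := congrArg (fun g => (d * e) * g * (d * e)⁻¹) hb
        simp only [conjq] at h'
        rw [show X 5 = x from rfl, adx.mul aex, a6d.mul a6e, a7d.mul a7e] at h'
        rw [show X 5 = x from rfl]
        simpa [hω0, ← sq, mul_comm, mul_left_comm, mul_assoc] using h'
    intro a
    rcases eq_or_ne a 0 with rfl | ha
    · intro b; simp [hd0 5, hd0 7]
    refine step (fun a => ∀ b, (X 6 b)⁻¹ * (X 5 a)⁻¹ * X 6 b * X 5 a = X 7 (-2 * (a * b)))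
      (fun a hab b => ?_) (fun b => by simpa using h1 b) a ha
    have h' := congrArg (fun g => d * g * d⁻¹) (hab (ω⁻¹ * b))
    simp only [conjq] at h'
    rw [show X 5 = x from rfl, adx, a6d, a7d, mul_inv_cancel_left₀ hω0] at h'
    rw [show X 5 = x from rfl, h']
    congr 1
    field_simp
  obtain ⟨φ, hφ⟩ := exists_cover_hom S c57 c47 p54 p56
  have hmem : ∀ r < 8, ∀ c, X r c ∈ φ.range := fun r hr c => ⟨_, hφ r hr c⟩
  have hu : u ∈ φ.range := by simpa [hX, fam, hx1] using hmem 5 (by norm_num) 1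
  have hv : v ∈ φ.range := by simpa [hX, fam, hz1] using hmem 4 (by norm_num) 1
  have ht : t ∈ φ.range := by
    rw [htu]
    refine mul_mem (mul_mem hu ?_) hu
    simpa [hX, fam, hx1] using hmem 2 (by norm_num) (-1)
  have hs : s ∈ φ.range := by
    rw [hsv]
    refine mul_mem (mul_mem hv ?_) hv
    simpa [hX, fam, hz1] using hmem 3 (by norm_num) (-1)
  have hz : ∀ c, z c ∈ φ.range := fun c => by simpa [hX, fam] using hmem 4 (by norm_num) c
  have he : e ∈ φ.range := by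
    rw [hbase]
    exact mul_mem (mul_mem (mul_mem (hz _) (mul_mem (mul_mem hs (hz _)) (inv_mem hs))) (hz _)) (inv_mem hs)
  refine ⟨φ, hu, ht, hv, hs, ?_, he⟩
  rw [← hte]
  exact mul_mem (mul_mem ht he) (inv_mem ht)

end Main

end CfsgLib.Lie.ShortPres.BTwo
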